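/-
Subgroups of PSL(3) with trivial solvable radical: the setting, and its socle modulo scalars.
-/
import Cfsg.Agent.Lib.Geo.SL3.Trans.Conj
import Cfsg.Agent.Lib.Geo.Asch.Linear

set_option autoImplicit false

namespace CfsgLib.Geo.SL3.Odd

open Cfsg.Geo CfsgLib.Geo.SL3.Trans
open scoped commutatorElement

variable {F : Type*} [Field F] {M N : Subgroup (GL (Fin 3) F)}

/-- A group in SL(3) with a normal core. -/
structure Sit (M N : Subgroup (GL (Fin 3) F)) : Prop where
  le_sl : M ≤ specialLinear (Fin 3) F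
  sub : N ≤ M
  normal : ∀ h ∈ M, ∀ x ∈ N, h * x * h⁻¹ ∈ N
  core : IsCore N

/-- A group modulo its scalars. -/
abbrev Bar (M : Subgroup (GL (Fin 3) F)) := M ⧸ (scalars (Fin 3) F).subgroupOf M

theorem Sit.cent (hS : Sit M N) {h : GL (Fin 3) F}
    (hc : ∀ x ∈ N, h * x * h⁻¹ * x⁻¹ ∈ scalars (Fin 3) F) : h ∈ scalars (Fin 3) F :=
  Asch.mem_scalars_of_commute hS.core.absIrred
    (Asch.commute_of_perfect Asch.scalars_le_center hS.core.perfect hc)

/-- The centre of an absolutely irreducible group consists of its scalars. -/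
theorem center_eq_scalars (hN : ActsAbsolutelyIrreducibly (matrixSet N)) :
    Subgroup.center N = (scalars (Fin 3) F).subgroupOf N := by
  ext x
  rw [Subgroup.mem_center_iff, Subgroup.mem_subgroupOf]
  refine ⟨fun h => Asch.mem_scalars_of_commute hN fun n hn => ?_, fun h y => ?_⟩
  · exact (congrArg Subtype.val (h ⟨n, hn⟩)).symm
  · exact Subtype.ext ((scalar_comm h (y : GL (Fin 3) F)).symm.eq)

/-- The core modulo scalars inside the group modulo scalars. -/
def Sit.soc (hS : Sit M N) : Subgroup (Bar M) :=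
  ((QuotientGroup.mk' ((scalars (Fin 3) F).subgroupOf M)).comp (Subgroup.inclusion hS.sub)).range

theorem Sit.mk_mem_soc (hS : Sit M N) {x : M} (hx : (x : GL (Fin 3) F) ∈ N) : (x : Bar M) ∈ hS.soc :=
  ⟨⟨x, hx⟩, rfl⟩

theorem Sit.soc_normal (hS : Sit M N) : hS.soc.Normal := by
  refine ⟨?_⟩
  rintro _ ⟨x, rfl⟩ g
  obtain ⟨g, rfl⟩ := QuotientGroup.mk'_surjective _ g
  refine ⟨⟨(g : GL (Fin 3) F) * x * (g : GL (Fin 3) F)⁻¹, hS.normal g g.2 x x.2⟩, ?_⟩
  simp only [MonoidHom.comp_apply, ← map_inv, ← map_mul]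
  rfl

/-- The socle is the core modulo scalars. -/
noncomputable def Sit.socEquiv (hS : Sit M N) : Bar N ≃* hS.soc :=
  (QuotientGroup.quotientMulEquivOfEq (by
    ext x
    rw [MonoidHom.mem_ker, MonoidHom.comp_apply, QuotientGroup.mk'_apply, QuotientGroup.eq_one_iff,
      Subgroup.mem_subgroupOf, Subgroup.mem_subgroupOf]
    rfl)).trans (QuotientGroup.quotientKerEquivRange
      ((QuotientGroup.mk' ((scalars (Fin 3) F).subgroupOf M)).comp (Subgroup.inclusion hS.sub)))

theorem Sit.soc_simple (hS : Sit M N) : IsSimpleGroup hS.soc := by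
  haveI := hS.core.simple
  exact hS.socEquiv.symm.isSimpleGroup

theorem Sit.centralizer_soc (hS : Sit M N) : Subgroup.centralizer (hS.soc : Set (Bar M)) = ⊥ := by
  refine eq_bot_iff.2 fun z hz => ?_
  obtain ⟨g, rfl⟩ := QuotientGroup.mk'_surjective _ z
  rw [Subgroup.mem_bot, QuotientGroup.mk'_apply, QuotientGroup.eq_one_iff, Subgroup.mem_subgroupOf]
  refine hS.cent fun x hx => ?_
  have h1 := Subgroup.mem_centralizer_iff.1 hz _ ⟨⟨x, hx⟩, rfl⟩
  simp only [MonoidHom.comp_apply, QuotientGroup.mk'_apply, ← QuotientGroup.mk_mul] at h1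
  have h2 := QuotientGroup.eq.1 h1
  rw [Subgroup.mem_subgroupOf] at h2
  have h3 := (scalars_normal (ι := Fin 3) (F := F)).conj_mem _ h2 (x * (g : GL (Fin 3) F))
  simp only [Subgroup.coe_mul, InvMemClass.coe_inv, Subgroup.coe_inclusion] at h3
  convert h3 using 1
  group

theorem Sit.not_solvable (hS : Sit M N) : ¬ Group.IsSolvable (Bar M) := by
  intro h
  haveI := hS.core.simple
  have e := hS.socEquiv
  haveI : Group.IsSolvable (Bar N) :=
    Group.isSolvable_of_isSolvable_injective (f := hS.soc.subtype.comp e.toMonoidHom)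
      (hS.soc.subtype_injective.comp e.injective)
  exact hS.core.nonabelian ⟨⟨fun a b => IsSimpleGroup.comm_iff_isSolvable.2 inferInstance a b⟩⟩

theorem Sit.conj (hS : Sit M N) (B : GL (Fin 3) F) : Sit (Trans.conjL B M) (Trans.conjL B N) where
  le_sl := by
    rintro _ ⟨x, hx, rfl⟩
    show Matrix.GeneralLinearGroup.det (B * x * B⁻¹) = 1
    rw [det_conj_eq]
    exact hS.le_sl hx
  sub := Subgroup.map_mono hS.sub
  normal := by
    rintro _ ⟨h, hh, rfl⟩ _ ⟨x, hx, rfl⟩
    exact ⟨_, hS.normal h hh x hx, by simp [mul_assoc]⟩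
  core := hS.core.conjL B

/-- A change of basis does not change the group modulo scalars. -/
noncomputable def barConj (M : Subgroup (GL (Fin 3) F)) (B : GL (Fin 3) F) : Bar M ≃* Bar (Trans.conjL B M) :=
  let e : M ≃* Trans.conjL B M := M.equivMapOfInjective (MulAut.conj B).toMonoidHom (MulAut.conj B).injective
  QuotientGroup.congr _ _ e (by
    ext x
    rw [Subgroup.mem_map]
    constructor
    · rintro ⟨y, hy, rfl⟩
      exact conj_mem_scalars.2 hy
    · intro hx
      refine ⟨e.symm x, ?_, e.apply_symm_apply x⟩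
      have h2 : B * (e.symm x : GL (Fin 3) F) * B⁻¹ = x := by
        conv_rhs => rw [← e.apply_symm_apply x]
        rfl
      exact conj_mem_scalars.1 (h2.symm ▸ hx : B * (e.symm x : GL (Fin 3) F) * B⁻¹ ∈ _))

end CfsgLib.Geo.SL3.Odd
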