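/-
Writing the core over the smallest possible subfield.
-/
import Cfsg.Agent.Lib.Geo.SL3.Odd.Basic
import Cfsg.Agent.Lib.Geo.Asch.Span
import Cfsg.Agent.Lib.Geo.SubspaceMaximal
import Cfsg.Agent.Lib.Classical.Dickson.Classify
import Cfsg.Agent.Lib.Classical.Unitary.MatrixStructure
import Cfsg.Agent.Lib.Geo.SL3.Trans.Linear

set_option autoImplicit false

namespace CfsgLib.Geo.SL3.Odd

open Matrix Cfsg.Geo CfsgLib.Geo.Roots
open scoped commutatorElement

variable {F : Type*} [Field F] {K : Type*} [Field K]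

/-- Extension of scalars. -/
abbrev gl (ι : K →+* F) : GL (Fin 3) K →* GL (Fin 3) F := Matrix.GeneralLinearGroup.map ι

/-- A scalar matrix. -/
abbrev sc (c : Fˣ) : GL (Fin 3) F :=
  Units.map (Matrix.scalar (Fin 3) : F →+* Matrix (Fin 3) (Fin 3) F).toMonoidHom c

theorem sc_val (c : Fˣ) : (sc c : Matrix (Fin 3) (Fin 3) F) = (c : F) • 1 := by
  simp [Matrix.smul_one_eq_diagonal]

theorem sc_mem (c : Fˣ) : sc c ∈ scalars (Fin 3) F := ⟨c, rfl⟩

theorem gl_val (ι : K →+* F) (A : GL (Fin 3) K) :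
    (gl ι A : Matrix (Fin 3) (Fin 3) F) = (A : Matrix (Fin 3) (Fin 3) K).map ι := rfl

theorem gl_injective (ι : K →+* F) : Function.Injective (gl ι) := fun _ _ h =>
  Units.ext (Matrix.map_injective ι.injective (congrArg Units.val h :))

theorem gl_sc (ι : K →+* F) (a : Kˣ) : gl ι (sc a) = sc (Units.map (ι : K →* F) a) := by
  refine Units.ext ?_
  rw [gl_val, sc_val, sc_val]
  ext i j
  by_cases h : i = j <;> simp [h, Matrix.one_apply]

theorem exists_gl (ι : K →+* F) {g : GL (Fin 3) F}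
    (h : ∀ i j, ∃ a, ι a = (g : Matrix (Fin 3) (Fin 3) F) i j) : ∃ A, gl ι A = g := by
  choose a ha using h
  let M : Matrix (Fin 3) (Fin 3) K := Matrix.of a
  have hM : M.map ι = (g : Matrix (Fin 3) (Fin 3) F) := Matrix.ext ha
  have hdet : M.det ≠ 0 := by
    intro h0
    have h1 := RingHom.map_det ι M
    rw [h0, map_zero, RingHom.mapMatrix_apply, hM] at h1
    exact (Matrix.GeneralLinearGroup.det g).ne_zero h1.symm
  exact ⟨Matrix.GeneralLinearGroup.mkOfDetNeZero M hdet, Units.ext hM⟩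

theorem det_gl (ι : K →+* F) (A : GL (Fin 3) K) :
    Matrix.GeneralLinearGroup.det (gl ι A) = Units.map (ι : K →* F) (Matrix.GeneralLinearGroup.det A) :=
  Matrix.GeneralLinearGroup.map_det ι A

theorem absIrred_descend {N0 : Subgroup (GL (Fin 3) K)} (ι : K →+* F)
    (hi : ActsAbsolutelyIrreducibly (matrixSet (N0.map (gl ι)))) :
    ActsAbsolutelyIrreducibly (matrixSet N0) := by
  refine ⟨Asch.actsIrreducibly_iff.2 fun W hW => ?_, fun X hX => ?_⟩
  · let WF : Submodule F (Fin 3 → F) := Submodule.span F ((fun v : Fin 3 → K => ι ∘ v) '' W)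
    have hst : ∀ s ∈ matrixSet (N0.map (gl ι)), ∀ v ∈ WF, s *ᵥ v ∈ WF := by
      rintro _ ⟨_, ⟨A, hA, rfl⟩, rfl⟩ v hv
      induction hv using Submodule.span_induction with
      | mem x hx =>
        obtain ⟨w, hw, rfl⟩ := hx
        refine Submodule.subset_span ⟨_, hW _ ⟨A, hA, rfl⟩ w hw, ?_⟩
        funext i
        exact RingHom.map_mulVec ι (A : Matrix (Fin 3) (Fin 3) K) w i
      | zero => rw [Matrix.mulVec_zero]; exact zero_mem _
      | add x y _ _ hx hy => rw [Matrix.mulVec_add]; exact add_mem hx hy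
      | smul c x _ hx => rw [Matrix.mulVec_smul]; exact WF.smul_mem c hx
    rcases Asch.actsIrreducibly_iff.1 hi.1 WF hst with h | h
    · refine Or.inl (eq_bot_iff.2 fun v hv => ?_)
      have h1 : ι ∘ v ∈ WF := Submodule.subset_span ⟨v, hv, rfl⟩
      rw [h, Submodule.mem_bot] at h1
      rw [Submodule.mem_bot]
      funext i
      exact ι.injective ((congrFun h1 i).trans (map_zero ι).symm)
    · refine Or.inr (eq_top_iff.2 fun x _ => ?_)
      by_contra hx
      obtain ⟨φ, hφx, hφ⟩ := exists_functional_vanishing W x hx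
      have h1 : ∀ v ∈ WF, (ι ∘ φ) ⬝ᵥ v = 0 := by
        intro v hv
        induction hv using Submodule.span_induction with
        | mem y hy =>
          obtain ⟨w, hw, rfl⟩ := hy
          rw [← RingHom.map_dotProduct, hφ w hw, map_zero]
        | zero => exact dotProduct_zero _
        | add a b _ _ ha hb => rw [dotProduct_add, ha, hb, add_zero]
        | smul c a _ ha => rw [dotProduct_smul, ha, smul_zero]
      have h2 := h1 (ι ∘ x) (h ▸ Submodule.mem_top)
      rw [← RingHom.map_dotProduct, hφx, map_one] at h2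
      exact one_ne_zero h2
  · obtain ⟨c, hc⟩ := hi.2 (X.map ι) (by
      rintro _ ⟨_, ⟨A, hA, rfl⟩, rfl⟩
      show X.map ι * (A : Matrix (Fin 3) (Fin 3) K).map ι = (A : Matrix (Fin 3) (Fin 3) K).map ι * X.map ι
      rw [← Matrix.map_mul, ← Matrix.map_mul, hX _ ⟨A, hA, rfl⟩])
    refine ⟨X 0 0, Matrix.map_injective ι.injective ?_⟩
    have h0 : ι (X 0 0) = c := by
      have := congrFun (congrFun hc 0) 0
      simpa using this
    show X.map ι = ((X 0 0) • (1 : Matrix (Fin 3) (Fin 3) K)).map ι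
    rw [hc, ← h0]
    ext i j
    by_cases h : i = j <;> simp [h, Matrix.one_apply]

variable [Finite F] {M N : Subgroup (GL (Fin 3) F)}

/-- The core over a field over which it is defined and over no smaller one. -/
theorem exists_descend (hS : Sit M N) (hT : ¬ NoTransvection N) :
    ∃ (K : Type) (_ : Field K) (_ : Fintype K) (ι : K →+* F) (B : GL (Fin 3) F) (N0 : Subgroup (GL (Fin 3) K)),
      IsCore N0 ∧ ¬ NoTransvection N0 ∧
      (∀ F₀ : Subfield K, F₀ ≠ ⊤ → ¬ RealisableOver F₀ (matrixSet N0)) ∧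
      N0.map (gl ι) = Trans.conjL B N ∧ Nonempty (Bar N0 ≃* Bar N) ∧
      ∀ h ∈ Trans.conjL B M, ∃ (c : Fˣ) (A : GL (Fin 3) K), h = sc c * gl ι A ∧ ∀ x ∈ N0, A * x * A⁻¹ ∈ N0 := by
  classical
  haveI : Finite (Subfield F) := Finite.of_injective (fun k : Subfield F => (k : Set F)) SetLike.coe_injective
  obtain ⟨k0, ⟨B, hB⟩, hmin⟩ := wellFounded_lt.has_min {k : Subfield F | RealisableOver k (matrixSet N)}
    ⟨⊤, 1, fun s _ i j => Subfield.mem_top _⟩
  obtain ⟨K, i1, i2, -, ⟨r⟩⟩ := CfsgLib.Classical.Dickson.exists_small_field (K := k0)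
  let ι : K →+* F := k0.subtype.comp r.toRingHom
  have hrange : ∀ a, ι a ∈ k0 := fun a => (r a).2
  have hsurj : ∀ x ∈ k0, ∃ a, ι a = x := fun x hx => ⟨r.symm ⟨x, hx⟩, by simp [ι]⟩
  set N' := Trans.conjL B N with hN'
  have hent : ∀ g ∈ N', ∀ i j, (g : Matrix (Fin 3) (Fin 3) F) i j ∈ k0 := by
    rintro _ ⟨x, hx, rfl⟩ i j
    exact hB _ ⟨x, hx, rfl⟩ i j
  set N0 := N'.comap (gl ι) with hN0
  have hmap : N0.map (gl ι) = N' := by
    refine le_antisymm (Subgroup.map_comap_le _ _) fun g hg => ?_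
    obtain ⟨A, rfl⟩ := exists_gl ι fun i j => hsurj _ (hent g hg i j)
    exact ⟨A, hg, rfl⟩
  have hcN' : IsCore N' := hS.core.conjL B
  have hirr : ActsAbsolutelyIrreducibly (matrixSet N0) := absIrred_descend ι (hmap.symm ▸ hcN'.absIrred)
  let e : N0 ≃* N' := (N0.equivMapOfInjective (gl ι) (gl_injective ι)).trans (MulEquiv.subgroupCongr hmap)
  let q : Bar N0 ≃* Bar N' := QuotientGroup.congr _ _ e (by
    rw [← center_eq_scalars hirr, ← center_eq_scalars hcN'.absIrred]
    exact CfsgLib.Classical.Herm.map_center_of_equiv e)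
  have hcore : IsCore N0 := by
    refine ⟨fun A hA => ?_, ?_, hirr, ?_, ?_⟩
    · have h1 : Matrix.GeneralLinearGroup.det (gl ι A) = 1 := hcN'.le hA
      rw [det_gl] at h1
      exact Units.map_injective (f := (ι : K →* F)) ι.injective (h1.trans (map_one _).symm)
    · refine Subgroup.map_injective (gl_injective ι) ?_
      rw [Subgroup.map_commutator, hmap, hcN'.perfect]
    · haveI := hcN'.simple
      exact q.isSimpleGroup
    · exact fun hc => hcN'.nonabelian ⟨⟨fun a b => q.symm.injective (by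
        rw [map_mul, map_mul]; exact hc.is_comm.comm _ _)⟩⟩
  refine ⟨K, i1, i2, ι, B, N0, hcore, ?_, ?_, hmap, ⟨q.trans (barConj N B).symm⟩, ?_⟩
  · intro h0
    refine Trans.not_noTransvection_conjL hT B fun φ u hr => ?_
    by_contra hne
    push Not at hne
    obtain ⟨hd, hm⟩ := hr
    obtain ⟨i, hi⟩ := Function.ne_iff.1 hne.2
    simp only [Pi.zero_apply] at hi
    have hprod : ∀ a b, u a * φ b ∈ k0 := fun a b => by
      have h1 := hent _ hm a b
      have h2 : (1 : Matrix (Fin 3) (Fin 3) F) a b ∈ k0 := by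
        rw [Matrix.one_apply]; split
        exacts [k0.one_mem, k0.zero_mem]
      have h3 := k0.sub_mem h1 h2
      rwa [show ((transvectionGL φ u hd : GL (Fin 3) F) : Matrix (Fin 3) (Fin 3) F) a b - (1 : Matrix (Fin 3) (Fin 3) F) a b
        = u a * φ b by simp [transvectionGL, Matrix.vecMulVec_apply]] at h3
    obtain ⟨j, hj⟩ := Function.ne_iff.1 hne.1
    simp only [Pi.zero_apply] at hj
    have hu : ∀ a, ∃ x, ι x = u a / u i := fun a => hsurj _ (by
      rw [← mul_div_mul_right (u a) (u i) hj]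
      exact k0.div_mem (hprod a j) (hprod i j))
    choose u' hu' using hu
    have hφ : ∀ b, ∃ x, ι x = u i * φ b := fun b => hsurj _ (hprod i b)
    choose φ' hφ' using hφ
    have hd' : φ' ⬝ᵥ u' = 0 := ι.injective (by
      rw [RingHom.map_dotProduct, map_zero, ← hd]
      refine Finset.sum_congr rfl fun b _ => ?_
      show ι (φ' b) * ι (u' b) = φ b * u b
      rw [hφ', hu']
      field_simp)
    have heq : gl ι (transvectionGL φ' u' hd') = transvectionGL φ u hd := by
      refine Units.ext (Matrix.ext fun a b => ?_)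
      have hone : ι ((1 : Matrix (Fin 3) (Fin 3) K) a b) = (1 : Matrix (Fin 3) (Fin 3) F) a b := by
        by_cases h : a = b <;> simp [h, Matrix.one_apply]
      show ι ((1 + Matrix.vecMulVec u' φ' : Matrix (Fin 3) (Fin 3) K) a b) =
        (1 + Matrix.vecMulVec u φ : Matrix (Fin 3) (Fin 3) F) a b
      rw [Matrix.add_apply, Matrix.add_apply, map_add, hone, Matrix.vecMulVec_apply, Matrix.vecMulVec_apply,
        map_mul, hu', hφ']
      field_simp
    rcases h0 φ' u' ⟨hd', by show gl ι _ ∈ N'; rw [heq]; exact hm⟩ with h | h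
    · have := hφ' j
      rw [h, Pi.zero_apply, map_zero] at this
      exact (mul_ne_zero hi hj) this.symm
    · have := hu' i
      rw [h, Pi.zero_apply, map_zero, div_self hi] at this
      exact zero_ne_one this
  · rintro F₀ hne ⟨B1, hB1⟩
    refine hmin (F₀.map ι) ⟨gl ι B1 * B, ?_⟩ ?_
    · rintro _ ⟨g, hg, rfl⟩ i j
      have hgN : B * g * B⁻¹ ∈ N' := ⟨g, hg, rfl⟩
      rw [← hmap] at hgN
      obtain ⟨A, hA, e'⟩ := hgN
      have h1 : gl ι B1 * B * g * (gl ι B1 * B)⁻¹ = gl ι (B1 * A * B1⁻¹) := by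
        rw [map_mul, map_mul, map_inv, e']; group
      have h2 := congrArg (fun z : GL (Fin 3) F => (z : Matrix (Fin 3) (Fin 3) F) i j) h1
      show ((gl ι B1 * B * g * (gl ι B1 * B)⁻¹ : GL (Fin 3) F) : Matrix (Fin 3) (Fin 3) F) i j ∈ F₀.map ι
      rw [h1]
      exact ⟨_, hB1 _ ⟨A, hA, rfl⟩ i j, rfl⟩
    · refine lt_of_le_of_ne ?_ fun e' => hne (SetLike.ext fun a => iff_of_true ?_ (Subfield.mem_top a))
      · rintro _ ⟨a, -, rfl⟩
        exact hrange a
      · have h1 : ι a ∈ F₀.map ι := e' ▸ hrange a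
        obtain ⟨b, hb, hab⟩ := h1
        rwa [← ι.injective hab]
  · intro h hh
    obtain ⟨h', hh', rfl⟩ := hh
    obtain ⟨w, hw, he⟩ := Asch.le_subfieldSubgroup_of_realised hS.normal hS.core.absIrred (le_refl k0) B hB hh'
    obtain ⟨g, hg, z, hz, rfl⟩ := Subgroup.mem_sup_of_normal_right.1 hw
    obtain ⟨c, rfl⟩ := hz
    obtain ⟨g0, rfl⟩ := hg
    obtain ⟨A, hA⟩ := exists_gl ι (g := Matrix.GeneralLinearGroup.map k0.subtype g0) fun i j =>
      hsurj _ ((g0 : Matrix (Fin 3) (Fin 3) k0) i j).2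
    have hBh : MulAut.conj B h' = sc c * gl ι A := by
      rw [hA, (Trans.scalar_comm (sc_mem c) _).eq, ← he]
      simp [MulAut.conj_apply, mul_assoc]
      rfl
    refine ⟨c, A, hBh, fun x hx => ?_⟩
    show gl ι (A * x * A⁻¹) ∈ N'
    have h1 := (hS.conj B).normal _ ⟨h', hh', rfl⟩ (gl ι x) hx
    have h2 : (MulAut.conj B).toMonoidHom h' = sc c * gl ι A := hBh
    rw [h2] at h1
    convert h1 using 1
    rw [map_mul, map_mul, map_inv, show sc c * gl ι A * gl ι x * (sc c * gl ι A)⁻¹ =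
      sc c * (gl ι A * gl ι x * (gl ι A)⁻¹) * (sc c)⁻¹ by group, (Trans.scalar_comm (sc_mem c) _).eq,
      mul_inv_cancel_right]

end CfsgLib.Geo.SL3.Odd
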