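/-
The index of the socle when the group is scalars times a classical group over a subfield.
-/
import Cfsg.Agent.Lib.Geo.SL3.Odd.Descend

set_option autoImplicit false

namespace CfsgLib.Geo.SL3.Odd

open Matrix Cfsg.Geo

variable {F : Type*} [Field F] [Fintype F] {M N : Subgroup (GL (Fin 3) F)}

theorem det_sc (c : Fˣ) : Matrix.GeneralLinearGroup.det (sc c : GL (Fin 3) F) = c ^ 3 := by
  refine Units.ext ?_
  rw [Matrix.GeneralLinearGroup.val_det_apply, sc_val, Matrix.det_smul, Matrix.det_one, mul_one,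
    Fintype.card_fin, Units.val_pow_eq_pow_val]

theorem sc_mul (a b : Fˣ) : (sc (a * b) : GL (Fin 3) F) = sc a * sc b := map_mul _ a b

theorem sc_inv (a : Fˣ) : (sc a⁻¹ : GL (Fin 3) F) = (sc a)⁻¹ := map_inv _ a

/-- The socle has index one or three. -/
theorem soc_index (hS : Sit M N) (G0 : Subgroup (GL (Fin 3) F)) (Mu : Subgroup Fˣ)
    (hscal : ∀ a, sc a ∈ G0 ↔ a ∈ Mu) (hdet : ∀ A ∈ G0, Matrix.GeneralLinearGroup.det A ∈ Mu)
    (hker : G0 ⊓ specialLinear (Fin 3) F ≤ N) (hN : N ≤ G0) (hdec : ∀ h ∈ M, ∃ c, (sc c)⁻¹ * h ∈ G0) :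
    hS.soc = ⊤ ∨ (hS.soc.index = 3 ∧ 3 ∣ Nat.card Mu ∧ ∃ c : Fˣ, c ^ 3 ∈ Mu ∧ c ∉ Mu) := by
  classical
  haveI := hS.soc_normal
  choose c hc using fun h : M => hdec h h.2
  set R : Subgroup Fˣ := Mu ⊔ rootsOfUnity 3 F with hR
  have hc3 : ∀ h, c h ^ 3 ∈ Mu := fun h => by
    have h1 := hdet _ (hc h)
    rw [map_mul, map_inv, det_sc, show Matrix.GeneralLinearGroup.det (h : GL (Fin 3) F) = 1 from hS.le_sl h.2,
      mul_one] at h1
    exact inv_mem_iff.1 h1
  let δ : M →* Fˣ ⧸ R := MonoidHom.mk' (fun h => (c h : Fˣ ⧸ R)) fun a b => by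
    rw [← QuotientGroup.mk_mul, QuotientGroup.eq, mul_comm (c a) (c b)]
    refine Subgroup.mem_sup_left ((hscal _).1 ?_)
    have h1 := G0.mul_mem (hc (a * b)) (G0.inv_mem (G0.mul_mem (hc a) (hc b)))
    have e : (sc (c (a * b)))⁻¹ * ((a * b : M) : GL (Fin 3) F) * ((sc (c a))⁻¹ * (a : GL (Fin 3) F) *
        ((sc (c b))⁻¹ * (b : GL (Fin 3) F)))⁻¹ = sc ((c (a * b))⁻¹ * (c b * c a)) := by
      rw [show (sc (c a))⁻¹ * (a : GL (Fin 3) F) * ((sc (c b))⁻¹ * (b : GL (Fin 3) F)) =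
        (sc (c a))⁻¹ * ((a : GL (Fin 3) F) * (sc (c b))⁻¹) * (b : GL (Fin 3) F) by group,
        ← (Trans.scalar_comm ((scalars (Fin 3) F).inv_mem (sc_mem (c b))) _).eq, Subgroup.coe_mul, sc_mul, sc_mul,
        sc_inv]
      group
    rwa [e] at h1
  have hkerδ : δ.ker = hS.soc.comap (QuotientGroup.mk' ((scalars (Fin 3) F).subgroupOf M)) := by
    ext h
    rw [MonoidHom.mem_ker, Subgroup.mem_comap]
    show (c h : Fˣ ⧸ R) = 1 ↔ _
    rw [QuotientGroup.eq_one_iff, hR]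
    constructor
    · intro hmem
      obtain ⟨a, ha, μ, hμ, e⟩ := Subgroup.mem_sup.1 hmem
      have hμ3 : μ ^ 3 = 1 := (mem_rootsOfUnity _ _).1 hμ
      have hn0 : (sc μ)⁻¹ * (h : GL (Fin 3) F) ∈ G0 := by
        have h1 := G0.mul_mem ((hscal a).2 ha) (hc h)
        rw [← e, mul_comm a μ, sc_mul, _root_.mul_inv_rev, mul_assoc, mul_inv_cancel_left] at h1
        exact h1
      have hn1 : (sc μ)⁻¹ * (h : GL (Fin 3) F) ∈ specialLinear (Fin 3) F := by
        show Matrix.GeneralLinearGroup.det _ = 1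
        rw [map_mul, map_inv, det_sc, hμ3, inv_one, one_mul]
        exact hS.le_sl h.2
      have hn := hker ⟨hn0, hn1⟩
      refine ⟨⟨_, hn⟩, ?_⟩
      refine QuotientGroup.eq.2 ?_
      rw [Subgroup.mem_subgroupOf]
      show ((sc μ)⁻¹ * (h : GL (Fin 3) F))⁻¹ * (h : GL (Fin 3) F) ∈ scalars (Fin 3) F
      rw [show ((sc μ)⁻¹ * (h : GL (Fin 3) F))⁻¹ * (h : GL (Fin 3) F) = (h : GL (Fin 3) F)⁻¹ * sc μ * ((h : GL (Fin 3) F)⁻¹)⁻¹ by group]
      exact (scalars_normal (ι := Fin 3) (F := F)).conj_mem _ (sc_mem μ) _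
    · rintro ⟨n, hn⟩
      have hz := QuotientGroup.eq.1 hn
      obtain ⟨μ, hμ⟩ : ∃ μ, sc μ = ((Subgroup.inclusion hS.sub n : M) : GL (Fin 3) F)⁻¹ * (h : GL (Fin 3) F) :=
        Subgroup.mem_subgroupOf.1 hz
      have hμ3 : μ ^ 3 = 1 := by
        rw [← det_sc, hμ, map_mul, map_inv, show Matrix.GeneralLinearGroup.det (h : GL (Fin 3) F) = 1 from hS.le_sl h.2,
          show Matrix.GeneralLinearGroup.det ((Subgroup.inclusion hS.sub n : M) : GL (Fin 3) F) = 1 from
            hS.le_sl (Subgroup.inclusion hS.sub n).2, inv_one, one_mul]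
      have h1 : sc ((c h)⁻¹ * μ) ∈ G0 := by
        have h2 := G0.mul_mem (hc h) (G0.inv_mem (hN n.2))
        have hh : (h : GL (Fin 3) F) = sc μ * n := by
          rw [(Trans.scalar_comm (sc_mem μ) _).eq, hμ]
          simp
        rw [hh] at h2
        simpa [sc_mul, sc_inv, mul_assoc] using h2
      refine Subgroup.mem_sup.2 ⟨c h * μ⁻¹, ?_, μ, (mem_rootsOfUnity _ _).2 hμ3, inv_mul_cancel_right _ _⟩
      have := Mu.inv_mem ((hscal _).1 h1)
      rwa [_root_.mul_inv_rev, inv_inv, mul_comm] at this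
  have hidx : hS.soc.index = Nat.card δ.range := by
    rw [← Subgroup.index_comap_of_surjective hS.soc (QuotientGroup.mk'_surjective _), ← hkerδ, Subgroup.index_ker]
  haveI : IsCyclic (Fˣ ⧸ R) := isCyclic_of_surjective (QuotientGroup.mk' R) (QuotientGroup.mk'_surjective _)
  have hdvd : Nat.card δ.range ∣ 3 := by
    rw [← IsCyclic.exponent_eq_card]
    refine Monoid.exponent_dvd_of_forall_pow_eq_one ?_
    rintro ⟨_, h, rfl⟩
    refine Subtype.ext ?_
    show (c h : Fˣ ⧸ R) ^ 3 = 1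
    rw [← QuotientGroup.mk_pow, QuotientGroup.eq_one_iff]
    exact Subgroup.mem_sup_left (hc3 h)
  rcases (Nat.dvd_prime Nat.prime_three).1 hdvd with h1 | h3
  · exact Or.inl (Subgroup.index_eq_one.1 (hidx.trans h1))
  refine Or.inr ⟨hidx.trans h3, ?_⟩
  obtain ⟨h, hh⟩ : ∃ h, c h ∉ R := by
    by_contra! hall
    have : Nat.card δ.range = 1 := by
      rw [show δ.range = ⊥ from eq_bot_iff.2 (by
        rintro _ ⟨h, rfl⟩
        exact (QuotientGroup.eq_one_iff _).2 (hall h)), Subgroup.card_bot]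
    omega
  refine ⟨?_, c h, hc3 h, fun hm => hh (Subgroup.mem_sup_left hm)⟩
  by_contra hnd
  have hco : (Nat.card Mu).Coprime 3 := (Nat.prime_three.coprime_iff_not_dvd.2 hnd).symm
  obtain ⟨d, hd⟩ := (powCoprime hco).surjective ⟨c h ^ 3, hc3 h⟩
  have hd3 : (d : Fˣ) ^ 3 = c h ^ 3 := congrArg Subtype.val hd
  refine hh (Subgroup.mem_sup.2 ⟨(d : Fˣ), d.2, (d : Fˣ)⁻¹ * c h, ?_, mul_inv_cancel_left _ _⟩)
  rw [mem_rootsOfUnity, mul_pow, inv_pow, hd3, inv_mul_cancel]

/-- The fixed points of the Frobenius power of a subfield lie in it. -/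
theorem mem_range_of_pow {K : Type*} [Field K] [Fintype K] (ι : K →+* F) {x : F} (hx : x ^ Fintype.card K = x) :
    ∃ a, ι a = x := by
  classical
  set Q := Fintype.card K
  have h1 : 1 < Q := Fintype.one_lt_card
  have hne : (Polynomial.X ^ Q - Polynomial.X : Polynomial F) ≠ 0 := FiniteField.X_pow_card_sub_X_ne_zero F h1
  have hsub : Finset.univ.image ι = (Polynomial.X ^ Q - Polynomial.X : Polynomial F).roots.toFinset := by
    refine Finset.eq_of_subset_of_card_le ?_ ?_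
    · intro y hy
      obtain ⟨a, -, rfl⟩ := Finset.mem_image.1 hy
      rw [Multiset.mem_toFinset, Polynomial.mem_roots hne]
      simp [← map_pow, Q, FiniteField.pow_card]
    · rw [Finset.card_image_of_injective _ ι.injective, Finset.card_univ]
      exact (Multiset.toFinset_card_le _).trans ((Polynomial.card_roots' _).trans
        (le_of_eq (FiniteField.X_pow_card_sub_X_natDegree_eq F h1)))
  have : x ∈ Finset.univ.image ι := by
    rw [hsub, Multiset.mem_toFinset, Polynomial.mem_roots hne]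
    simp [hx]
  obtain ⟨a, -, ha⟩ := Finset.mem_image.1 this
  exact ⟨a, ha⟩

/-- An element moved by a primitive cube root forces degree divisible by three. -/
theorem three_dvd_degree {Q m : ℕ} (hF : Fintype.card F = Q ^ m) {c w : Fˣ} (hw3 : w ^ 3 = 1) (hw1 : w ≠ 1)
    (hQ : c ^ Q = w * c) (hQw : w ^ Q = w) : 3 ∣ m := by
  have key : ∀ j, c ^ Q ^ j = w ^ j * c := by
    intro j
    induction j with
    | zero => simp
    | succ j ih => rw [pow_succ, pow_mul, ih, mul_pow, ← pow_mul, mul_comm j, pow_mul, hQw, hQ, pow_succ, mul_assoc]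
  have h1 : w ^ m = 1 := by
    have h2 : c ^ Q ^ m = c := Units.ext (by rw [Units.val_pow_eq_pow_val, ← hF, FiniteField.pow_card])
    rw [key] at h2
    exact mul_eq_right.1 h2
  rw [← orderOf_eq_prime hw3 hw1]
  exact orderOf_dvd_of_pow_eq_one h1

end CfsgLib.Geo.SL3.Odd
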