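/-
Cores with transvections: the linear and unitary groups over subfields.
-/
import Cfsg.Agent.Lib.Geo.SL3.Odd.Index
import Cfsg.Agent.Lib.Geo.SL3.Residual.TransvectionCases
import Cfsg.Agent.Lib.Geo.SL3.Maximal.HermOrder

set_option autoImplicit false

namespace CfsgLib.Geo.SL3.Odd

open Matrix Cfsg.Geo CfsgLib.Geo.Asch

variable {K : Type*} [Field K] {F : Type*} [Field F]

theorem sc_eq_gl (ι : K →+* F) {A : GL (Fin 3) K} {a : Fˣ} (h : gl ι A = sc a) :
    ∃ a0 : Kˣ, a = Units.map (ι : K →* F) a0 ∧ A = sc a0 := by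
  have h00 : ι ((A : Matrix (Fin 3) (Fin 3) K) 0 0) = a := by
    have h1 := congrArg (fun g : GL (Fin 3) F => (g : Matrix (Fin 3) (Fin 3) F) 0 0) h
    simp only [sc_val, gl_val] at h1
    simpa using h1
  have hne : (A : Matrix (Fin 3) (Fin 3) K) 0 0 ≠ 0 := fun e => a.ne_zero (by rw [← h00, e, map_zero])
  refine ⟨Units.mk0 _ hne, Units.ext h00.symm, gl_injective ι ?_⟩
  rw [h, gl_sc]
  congr 1
  exact Units.ext h00.symm

/-- SL modulo scalars. -/
theorem bar_sl_equiv (hi : ActsAbsolutelyIrreducibly (matrixSet (specialLinear (Fin 3) K))) :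
    Nonempty (Bar (specialLinear (Fin 3) K) ≃* Matrix.ProjectiveSpecialLinearGroup (Fin 3) K) := by
  let f : Matrix.SpecialLinearGroup (Fin 3) K →* specialLinear (Fin 3) K :=
    Matrix.SpecialLinearGroup.toGL.codRestrict _ fun x => Units.ext x.2
  have hf : Function.Bijective f := ⟨fun a b e => Matrix.SpecialLinearGroup.toGL_injective (congrArg Subtype.val e),
    fun g => ⟨⟨_, congrArg Units.val (show Matrix.GeneralLinearGroup.det (g : GL (Fin 3) K) = 1 from g.2)⟩,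
      Subtype.ext (Units.ext rfl)⟩⟩
  let e := MulEquiv.ofBijective f hf
  exact ⟨(QuotientGroup.congr _ _ e (by
    rw [← center_eq_scalars hi]
    exact CfsgLib.Classical.Herm.map_center_of_equiv e)).symm⟩

/-- SU modulo scalars. -/
theorem bar_su_equiv {q : ℕ} (hi : ActsAbsolutelyIrreducibly (matrixSet (SUg 3 K q))) :
    Nonempty (Bar (SUg 3 K q) ≃* Cfsg.PSU 3 K q) := by
  let f : Cfsg.SU 3 K q →* SUg 3 K q :=
    (Matrix.SpecialLinearGroup.toGL.comp (Cfsg.SU 3 K q).subtype).codRestrict _ fun x =>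
      ⟨fun u v => x.2 u v, Units.ext x.1.2⟩
  have hf : Function.Bijective f := ⟨fun a b e => Subtype.ext
      (Matrix.SpecialLinearGroup.toGL_injective (congrArg Subtype.val e)),
    fun g => ⟨⟨⟨_, congrArg Units.val (show Matrix.GeneralLinearGroup.det (g : GL (Fin 3) K) = 1 from g.2.2)⟩,
      fun u v => g.2.1 u v⟩, Subtype.ext (Units.ext rfl)⟩⟩
  let e := MulEquiv.ofBijective f hf
  exact ⟨(QuotientGroup.congr _ _ e (by
    rw [← center_eq_scalars hi]
    exact CfsgLib.Classical.Herm.map_center_of_equiv e)).symm⟩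

variable [Fintype K] {q : ℕ} {τ : K ≃+* K}

omit [Fintype K] in
theorem sc_mem_GU (hq : IsQPow τ q) (a : Kˣ) : sc a ∈ Cfsg.GU 3 K q ↔ a ^ (q + 1) = 1 := by
  have hval : ∀ u v, Cfsg.hermForm 3 K q ((sc a : Matrix (Fin 3) (Fin 3) K) *ᵥ u)
      ((sc a : Matrix (Fin 3) (Fin 3) K) *ᵥ v) = (a : K) ^ (q + 1) * Cfsg.hermForm 3 K q u v := by
    intro u v
    rw [sc_val, Matrix.smul_mulVec, Matrix.one_mulVec, Matrix.smul_mulVec, Matrix.one_mulVec]
    simp only [Cfsg.hermForm, Pi.smul_apply, smul_eq_mul, Finset.mul_sum]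
    exact Finset.sum_congr rfl fun i _ => by ring
  constructor
  · intro h
    have h1 : Cfsg.hermForm 3 K q ((sc a : Matrix (Fin 3) (Fin 3) K) *ᵥ Pi.single 0 1)
      ((sc a : Matrix (Fin 3) (Fin 3) K) *ᵥ Pi.single 0 1) = _ := h (Pi.single 0 1) (Pi.single 0 1)
    rw [hval, hermForm_eq hq] at h1
    refine Units.ext ?_
    simpa [Pi.single_apply] using h1
  · intro h u v
    show Cfsg.hermForm 3 K q ((sc a : Matrix (Fin 3) (Fin 3) K) *ᵥ u) ((sc a : Matrix (Fin 3) (Fin 3) K) *ᵥ v) = _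
    rw [hval, ← Units.val_pow_eq_pow_val, h, Units.val_one, one_mul]

omit [Fintype K] in
theorem det_GU (hq : IsQPow τ q) {A : GL (Fin 3) K} (hA : A ∈ Cfsg.GU 3 K q) :
    (Matrix.GeneralLinearGroup.det A) ^ (q + 1) = 1 := by
  have e : (A : Matrix (Fin 3) (Fin 3) K)ᵀ * (A : Matrix (Fin 3) (Fin 3) K).map τ = 1 := by
    ext i j
    have h1 : Cfsg.hermForm 3 K q ((A : Matrix (Fin 3) (Fin 3) K) *ᵥ Pi.single i 1)
      ((A : Matrix (Fin 3) (Fin 3) K) *ᵥ Pi.single j 1) = _ := hA (Pi.single i 1) (Pi.single j 1)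
    rw [hermForm_eq hq, hermForm_eq hq] at h1
    rw [Matrix.mul_apply, Matrix.one_apply]
    simpa [Pi.single_apply, eq_comm] using h1
  have hd := congrArg Matrix.det e
  rw [Matrix.det_mul, Matrix.det_transpose, Matrix.det_one,
    show (A : Matrix (Fin 3) (Fin 3) K).map τ = τ.toRingHom.mapMatrix (A : Matrix (Fin 3) (Fin 3) K) from rfl,
    ← RingHom.map_det] at hd
  refine Units.ext ?_
  rw [Units.val_pow_eq_pow_val, Units.val_one, Matrix.GeneralLinearGroup.val_det_apply, pow_succ']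
  rw [show τ.toRingHom (A : Matrix (Fin 3) (Fin 3) K).det = τ (A : Matrix (Fin 3) (Fin 3) K).det from rfl,
    hq.eq_pow] at hd
  exact hd

/-- A normaliser of SU is a scalar times a unitary matrix. -/
theorem exists_sc_mul_GU (hq : IsQPow τ q) (hK : Fintype.card K = q ^ 2) {L : Subgroup (GL (Fin 3) K)}
    (hL : L ≤ Cfsg.GU 3 K q) (hi : ActsAbsolutelyIrreducibly (matrixSet L)) {A : GL (Fin 3) K}
    (hA : ∀ x ∈ L, A * x * A⁻¹ ∈ L) : ∃ d, (sc d)⁻¹ * A ∈ Cfsg.GU 3 K q := by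
  have hu := isUnitaryForm_hermForm (n := 3) hq
  obtain ⟨c, hc⟩ := le_similarityGroup (H := Subgroup.normalizer (L : Set (GL (Fin 3) K))) (N := L)
    (fun h hh x hx => (Subgroup.mem_normalizer_iff.1 hh x).1 hx) hi (isSesqForm_of_unitary hu) hu.nondegenerate
    (fixesForm_of_le_GU hL) (Subgroup.mem_normalizer_fintype hA)
  have hfix : τ (c : K) = c := by
    have h1 := hc (Pi.single 0 1) (Pi.single 0 1)
    have h0 : Cfsg.hermForm 3 K q (Pi.single 0 1) (Pi.single 0 1) = 1 := by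
      simp [hermForm_eq hq, Pi.single_apply]
    rw [h0, mul_one] at h1
    have h2 := hu.herm ((A : Matrix (Fin 3) (Fin 3) K) *ᵥ Pi.single 0 1) ((A : Matrix (Fin 3) (Fin 3) K) *ᵥ Pi.single 0 1)
    rw [h1] at h2
    exact h2.symm
  obtain ⟨d, hd⟩ := hq.exists_norm hK hfix
  have hd0 : d ≠ 0 := fun e => c.ne_zero (by rw [← hd, e, zero_mul])
  refine ⟨Units.mk0 d hd0, fun u v => ?_⟩
  have hval : (((sc (Units.mk0 d hd0))⁻¹ * A : GL (Fin 3) K) : Matrix (Fin 3) (Fin 3) K) =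
      d⁻¹ • (A : Matrix (Fin 3) (Fin 3) K) := by
    rw [← sc_inv, Units.val_mul, sc_val, Matrix.smul_mul, Matrix.one_mul, Units.val_inv_eq_inv_val, Units.val_mk0]
  show Cfsg.hermForm 3 K q ((((sc (Units.mk0 d hd0))⁻¹ * A : GL (Fin 3) K) : Matrix (Fin 3) (Fin 3) K) *ᵥ u)
    ((((sc (Units.mk0 d hd0))⁻¹ * A : GL (Fin 3) K) : Matrix (Fin 3) (Fin 3) K) *ᵥ v) = _
  rw [hval, Matrix.smul_mulVec, Matrix.smul_mulVec]
  have h3 := hc u v
  have hs := isSesqForm_of_unitary hu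
  rw [hs.smul_left, hs.smul_right, h3, ← mul_assoc, ← mul_assoc, map_inv₀, ← mul_inv, hd,
    inv_mul_cancel₀ c.ne_zero, one_mul]

variable [Fintype F] {M N : Subgroup (GL (Fin 3) F)}

omit [Fintype K] [Fintype F] in
theorem index_three_transfer {G H : Type*} [Group G] [Group H] {A : Subgroup G} (e : G ≃* H) {C : Type*} [Group C]
    (f : A ≃* C) (hi : A.index = 3) : ∃ L : Subgroup H, L.index = 3 ∧ Nonempty (L ≃* C) :=
  ⟨A.map e.toMonoidHom, (Subgroup.index_map_equiv A e).trans hi,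
    ⟨(A.equivMapOfInjective e.toMonoidHom e.injective).symm.trans f⟩⟩

omit [Fintype K] in
/-- The four clauses with transvections. -/
theorem large_clauses (p α : ℕ) [Fact p.Prime] [CharP F p] (hp : p ≠ 2) (hF : Fintype.card F = p ^ α)
    (hS : Sit M N) (hT : ¬ NoTransvection N) {H : Type*} [Group H] (eH : Bar M ≃* H) :
    (∃ (K : Type) (_ : Field K) (_ : Fintype K) (β : ℕ), Fintype.card K = p ^ β ∧ β ∣ α ∧
      Nonempty (H ≃* Matrix.ProjectiveSpecialLinearGroup (Fin 3) K)) ∨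
    (∃ (K : Type) (_ : Field K) (_ : Fintype K) (β : ℕ), Fintype.card K = p ^ (2 * β) ∧ 2 * β ∣ α ∧
      Nonempty (H ≃* Cfsg.PSU 3 K (p ^ β))) ∨
    (∃ (K : Type) (_ : Field K) (_ : Fintype K) (β : ℕ), Fintype.card K = p ^ β ∧ 3 ∣ p ^ β - 1 ∧ 3 * β ∣ α ∧
      ∃ L : Subgroup H, L.index = 3 ∧ Nonempty (L ≃* Matrix.ProjectiveSpecialLinearGroup (Fin 3) K)) ∨
    (∃ (K : Type) (_ : Field K) (_ : Fintype K) (β : ℕ), Fintype.card K = p ^ (2 * β) ∧ 3 ∣ p ^ β + 1 ∧ 6 * β ∣ α ∧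
      ∃ L : Subgroup H, L.index = 3 ∧ Nonempty (L ≃* Cfsg.PSU 3 K (p ^ β))) := by
  classical
  have hpp := (Fact.out : p.Prime)
  obtain ⟨K, i1, i2, ι, B, N0, hcore, hT0, hno, hmap, ⟨q0⟩, hdec⟩ := exists_descend hS hT
  haveI : CharP K p := (RingHom.charP_iff ι ι.injective p).2 inferInstance
  obtain ⟨β, -, hKβ⟩ := FiniteField.card K p
  obtain ⟨m, hm⟩ : ∃ m, Fintype.card F = Fintype.card K ^ m := by
    letI := ι.toAlgebra
    exact ⟨_, by rw [← Nat.card_eq_fintype_card, ← Nat.card_eq_fintype_card]; exact Module.natCard_eq_pow_finrank⟩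
  have hαm : α = (β : ℕ) * m := by
    have h := hm
    rw [hF, hKβ, ← pow_mul] at h
    exact Nat.pow_right_injective hpp.two_le h
  have h2K : (2 : K) ≠ 0 := by
    intro h'
    have h'' : ((2 : ℕ) : K) = 0 := by exact_mod_cast h'
    rw [CharP.cast_eq_zero_iff K p] at h''
    exact hp ((Nat.prime_dvd_prime_iff_eq hpp Nat.prime_two).1 h'')
  let hS' := hS.conj B
  let eH' : Bar (Trans.conjL B M) ≃* H := (barConj M B).symm.trans eH
  rcases Residual.transvection_cases hcore hno hT0 with hSL | ⟨τ, f, hu, hfix, -⟩ | ⟨h0, -⟩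
  · subst hSL
    obtain ⟨e1⟩ := bar_sl_equiv hcore.absIrred
    let eA : hS'.soc ≃* Matrix.ProjectiveSpecialLinearGroup (Fin 3) K :=
      hS'.socEquiv.symm.trans (((barConj N B).symm.trans q0.symm).trans e1)
    have hidx := soc_index hS' (gl ι).range (Units.map (ι : K →* F)).range
      (fun a => ⟨fun ⟨A, hA⟩ => by
          obtain ⟨a0, ha, -⟩ := sc_eq_gl ι hA
          exact ⟨a0, ha.symm⟩,
        fun ⟨a0, ha⟩ => ⟨sc a0, by rw [gl_sc, ha]⟩⟩)
      (by rintro _ ⟨A, rfl⟩; exact ⟨_, (det_gl ι A).symm⟩)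
      (by
        rintro _ ⟨⟨A, rfl⟩, hd⟩
        rw [← hmap]
        refine ⟨A, ?_, rfl⟩
        refine Units.map_injective (f := (ι : K →* F)) ι.injective ?_
        rw [map_one, ← det_gl]
        exact hd)
      (hmap ▸ fun g hg => by obtain ⟨A, -, rfl⟩ := hg; exact ⟨A, rfl⟩)
      (fun h hh => by
        obtain ⟨c, A, e, -⟩ := hdec h hh
        exact ⟨c, A, by rw [e, inv_mul_cancel_left]⟩)
    rcases hidx with htop | ⟨hi, h3, c, hc3, hc⟩
    · exact Or.inl ⟨K, i1, i2, β, hKβ, ⟨m, hαm⟩,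
        ⟨eH'.symm.trans ((Subgroup.topEquiv.symm.trans (MulEquiv.subgroupCongr htop.symm)).trans eA)⟩⟩
    refine Or.inr (Or.inr (Or.inl ⟨K, i1, i2, β, hKβ, ?_, ?_, index_three_transfer eH' eA hi⟩))
    · rw [Nat.card_congr (MonoidHom.ofInjective (Units.map_injective (f := (ι : K →* F)) ι.injective)).symm.toEquiv,
        Nat.card_eq_fintype_card, Fintype.card_units, hKβ] at h3
      exact h3
    · rw [Nat.card_congr (MonoidHom.ofInjective (Units.map_injective (f := (ι : K →* F)) ι.injective)).symm.toEquiv,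
        Nat.card_eq_fintype_card, Fintype.card_units] at h3
      set Q := Fintype.card K with hQ
      have hQ1 : 1 < Q := Fintype.one_lt_card
      set w := c ^ (Q - 1) with hw
      have hw3 : w ^ 3 = 1 := by
        obtain ⟨d, hd⟩ := hc3
        rw [hw, ← pow_mul, mul_comm, pow_mul, ← hd, ← map_pow,
          show d ^ (Q - 1) = 1 by rw [hQ, ← Fintype.card_units]; exact pow_card_eq_one, map_one]
      have hcw : c ^ Q = w * c := by rw [hw, ← pow_succ, Nat.sub_add_cancel hQ1.le]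
      have hw1 : w ≠ 1 := fun e => by
        rw [e, one_mul] at hcw
        obtain ⟨a, ha⟩ := mem_range_of_pow ι (x := (c : F)) (by rw [← Units.val_pow_eq_pow_val, ← hQ, hcw])
        exact hc ⟨Units.mk0 a fun e0 => c.ne_zero (by rw [← ha, e0, map_zero]), Units.ext ha⟩
      have h3m : 3 ∣ m := three_dvd_degree hm hw3 hw1 hcw (by
        obtain ⟨k, hk⟩ := h3
        rw [show Q = 3 * k + 1 by omega, pow_succ, pow_mul, hw3, one_pow, one_mul])
      obtain ⟨k, rfl⟩ := h3m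
      exact ⟨k, by rw [hαm]; ring⟩
  swap
  · exact absurd h0 h2K
  obtain ⟨qq, hKq, hqp⟩ := Maximal.exists_isQPow_of hu.ne_refl hu.involutive
  obtain ⟨γ, -, hγ⟩ := (Nat.dvd_prime_pow hpp).1 (show qq ∣ p ^ (β : ℕ) by
    rw [← hKβ, hKq]; exact dvd_pow_self qq two_ne_zero)
  have hβγ : (β : ℕ) = 2 * γ := Nat.pow_right_injective hpp.two_le (by
    show p ^ (β : ℕ) = p ^ (2 * γ)
    rw [← hKβ, hKq, hγ, ← pow_mul, mul_comm])
  have hqq1 := IsQPow.one_lt hKq
  obtain ⟨P, hP⟩ := Maximal.exists_frame hu hqp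
  set N1 := Trans.conjL P⁻¹ N0 with hN1
  have hN1GU : N1 ≤ Cfsg.GU 3 K qq := by
    rintro _ ⟨n, hn, rfl⟩ u v
    show Cfsg.hermForm 3 K qq (((P⁻¹ * n * P⁻¹⁻¹ : GL (Fin 3) K) : Matrix (Fin 3) (Fin 3) K) *ᵥ u)
      (((P⁻¹ * n * P⁻¹⁻¹ : GL (Fin 3) K) : Matrix (Fin 3) (Fin 3) K) *ᵥ v) = _
    rw [inv_inv, ← hP, Units.val_mul, Units.val_mul, ← Matrix.mulVec_mulVec, ← Matrix.mulVec_mulVec,
      Trans.mulVec_cancel_right, ← Matrix.mulVec_mulVec, ← Matrix.mulVec_mulVec, Trans.mulVec_cancel_right,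
      hfix _ ⟨n, hn, rfl⟩, hP]
  have hcore1 : IsCore N1 := hcore.conjL P⁻¹
  have hno1 : ∀ F₀ : Subfield K, F₀ ≠ ⊤ → ¬ RealisableOver F₀ (matrixSet N1) := by
    rintro F₀ hne ⟨B1, hB1⟩
    refine hno F₀ hne ⟨B1 * P⁻¹, ?_⟩
    rintro _ ⟨n, hn, rfl⟩ i j
    have h1 := hB1 _ ⟨_, ⟨n, hn, rfl⟩, rfl⟩ i j
    simpa [_root_.mul_inv_rev, Matrix.mul_assoc] using h1
  have hN1eq : N1 = SUg 3 K qq := by
    rcases Residual.transvection_cases hcore1 hno1 (Trans.not_noTransvection_conjL hT0 P⁻¹) with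
      hSL | ⟨τ', f', -, -, hmax⟩ | ⟨h0, -⟩
    · have huh := isUnitaryForm_hermForm (n := 3) hqp
      refine absurd (fun g hg => ⟨1, fun u v => ?_⟩) (not_specialLinear_le_similarityGroup (F := K) (ι := Fin 3)
        (by simp) (isSesqForm_of_unitary huh) huh.nondegenerate)
      rw [Units.val_one, one_mul]
      exact hN1GU (hSL ▸ hg) u v
    · have hodd : qq ≠ 2 := fun e => by
        rw [e] at hγ
        exact hp ((Nat.prime_dvd_prime_iff_eq hpp Nat.prime_two).1 (by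
          rcases Nat.eq_zero_or_pos γ with g0 | g0
          · rw [g0, pow_zero] at hγ; omega
          · exact hγ ▸ dvd_pow_self p g0.ne'))
      exact le_antisymm (le_inf hN1GU hcore1.le) (hmax qq hKq (by omega) hN1GU)
    · exact absurd h0 h2K
  let B' := gl ι P⁻¹
  let hS'' := hS'.conj B'
  let eH'' : Bar (Trans.conjL B' (Trans.conjL B M)) ≃* H := (barConj _ B').symm.trans eH'
  have hmap1 : N1.map (gl ι) = Trans.conjL B' (Trans.conjL B N) := by
    rw [hN1, Trans.conjL, Trans.conjL, ← hmap, Subgroup.map_map, Subgroup.map_map]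
    congr 1
    refine MonoidHom.ext fun x => ?_
    simp [B', map_mul]
  obtain ⟨e1⟩ := bar_su_equiv (hN1eq ▸ hcore1.absIrred)
  let eA : hS''.soc ≃* Cfsg.PSU 3 K qq :=
    hS''.socEquiv.symm.trans ((((barConj _ B').symm.trans ((barConj N B).symm.trans q0.symm)).trans
      (barConj N0 P⁻¹)).trans ((hN1eq ▸ MulEquiv.refl (Bar N1) : Bar N1 ≃* Bar (SUg 3 K qq)).trans e1))
  set Z : Subgroup Kˣ := (powMonoidHom (qq + 1)).ker with hZ
  have hmemZ : ∀ a, a ∈ Z ↔ a ^ (qq + 1) = 1 := fun a => Iff.rfl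
  have hidx := soc_index hS'' ((Cfsg.GU 3 K qq).map (gl ι)) (Z.map (Units.map (ι : K →* F)))
    (fun a => ⟨fun ⟨A, hA, e⟩ => by
        obtain ⟨a0, ha, hA0⟩ := sc_eq_gl ι e
        exact ⟨a0, (sc_mem_GU hqp a0).1 (hA0 ▸ hA), ha.symm⟩,
      fun ⟨a0, ha0, ha⟩ => ⟨sc a0, (sc_mem_GU hqp a0).2 ha0, by rw [gl_sc, ha]⟩⟩)
    (by rintro _ ⟨A, hA, rfl⟩; exact ⟨_, det_GU hqp hA, (det_gl ι A).symm⟩)
    (by
      rintro _ ⟨⟨A, hA, rfl⟩, hd⟩
      rw [← hmap1]
      refine ⟨A, ?_, rfl⟩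
      rw [hN1eq]
      refine ⟨hA, Units.map_injective (f := (ι : K →* F)) ι.injective ?_⟩
      rw [map_one, ← det_gl]
      exact hd)
    (hmap1 ▸ Subgroup.map_mono hN1GU)
    (fun h hh => by
      obtain ⟨h', hh', rfl⟩ := hh
      obtain ⟨c, A, e, hn⟩ := hdec h' hh'
      have hn1 : ∀ x ∈ N1, (P⁻¹ * A * P) * x * (P⁻¹ * A * P)⁻¹ ∈ N1 := by
        rintro _ ⟨x, hx, rfl⟩
        refine ⟨_, hn x hx, ?_⟩
        simp [mul_assoc]
      obtain ⟨d, hd⟩ := exists_sc_mul_GU hqp hKq hN1GU hcore1.absIrred hn1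
      refine ⟨c * Units.map (ι : K →* F) d, _, hd, ?_⟩
      show gl ι ((sc d)⁻¹ * (P⁻¹ * A * P)) = (sc (c * Units.map (ι : K →* F) d))⁻¹ * (B' * h' * B'⁻¹)
      rw [e, sc_mul, ← gl_sc, _root_.mul_inv_rev, map_mul, map_mul, map_mul, map_inv,
        show B' * (sc c * gl ι A) * B'⁻¹ = sc c * (B' * gl ι A * B'⁻¹) by
          rw [← mul_assoc, ← (Trans.scalar_comm (sc_mem c) B').eq]; group,
        mul_assoc _ _ (sc c * _), inv_mul_cancel_left]
      simp [B', mul_assoc])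
  rw [hγ] at hKq eA hqq1
  rcases hidx with htop | ⟨hi, h3, c, hc3, hc⟩
  · exact Or.inr (Or.inl ⟨K, i1, i2, γ, by rw [hKβ, hβγ], ⟨m, by rw [hαm, hβγ]⟩,
      ⟨eH''.symm.trans ((Subgroup.topEquiv.symm.trans (MulEquiv.subgroupCongr htop.symm)).trans eA)⟩⟩)
  set Q := Fintype.card K with hQ
  have hQq : Q = p ^ γ * p ^ γ := by rw [hKq, pow_two]
  have h3' : 3 ∣ p ^ γ + 1 := by
    refine h3.trans ?_
    rw [Subgroup.card_map_of_injective (Units.map_injective (f := (ι : K →* F)) ι.injective), hZ, hγ,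
      IsCyclic.card_powMonoidHom_ker]
    exact Nat.gcd_dvd_right _ _
  refine Or.inr (Or.inr (Or.inr ⟨K, i1, i2, γ, by rw [hQ.symm.trans hKβ, hβγ], h3', ?_,
    index_three_transfer eH'' eA hi⟩))
  set qv := p ^ γ with hqv
  set w := c ^ (qv + 1) with hw
  have hw3 : w ^ 3 = 1 := by
    obtain ⟨d, hd, e⟩ := hc3
    rw [hw, ← pow_mul, mul_comm, pow_mul, ← e, ← map_pow, show d ^ (qv + 1) = 1 from hγ ▸ hd, map_one]
  obtain ⟨t, ht⟩ : ∃ t, qv = 3 * t + 2 := ⟨qv / 3, by omega⟩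
  have hcw : c ^ Q = w * c := by
    have h4 : w ^ (qv - 1) = w := by
      rw [show qv - 1 = 3 * t + 1 by omega, pow_succ, pow_mul, hw3, one_pow, one_mul]
    calc c ^ Q = c ^ ((qv + 1) * (qv - 1) + 1) := by
          congr 1
          rw [hQq, ← Nat.sq_sub_sq, one_pow, pow_two, Nat.sub_add_cancel]
          exact Nat.one_le_iff_ne_zero.2 (by positivity)
      _ = w * c := by rw [pow_succ, pow_mul, ← hw, h4]
  have hw1 : w ≠ 1 := fun e => by
    rw [e, one_mul] at hcw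
    obtain ⟨a, ha⟩ := mem_range_of_pow ι (x := (c : F)) (by rw [← Units.val_pow_eq_pow_val, ← hQ, hcw])
    refine hc ⟨Units.mk0 a fun e0 => c.ne_zero (by rw [← ha, e0, map_zero]), ?_, Units.ext ha⟩
    show (Units.mk0 a _) ^ (qq + 1) = 1
    refine Units.map_injective (f := (ι : K →* F)) ι.injective ?_
    rw [map_pow, map_one, hγ, show Units.map (ι : K →* F) (Units.mk0 a _) = c from Units.ext ha, ← hw, e]
  have h3m : 3 ∣ m := three_dvd_degree hm hw3 hw1 hcw (by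
    rw [show Q = 3 * (3 * t * t + 4 * t + 1) + 1 by rw [hQq, ht]; ring, pow_succ, pow_mul, hw3, one_pow, one_mul])
  obtain ⟨k, rfl⟩ := h3m
  exact ⟨k, by rw [hαm, hβγ]; ring⟩

end CfsgLib.Geo.SL3.Odd
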