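/-
Matrices of determinant one with the trace of their inverse and of their square.
-/
import Cfsg.Agent.Lib.Geo.SL3.Residual.SevenTrace

set_option autoImplicit false

namespace CfsgLib.Geo.SL3.Odd

open Matrix

variable {F : Type*} [Field F]

/-- An element of order prime to three and to the characteristic with these traces is trivial. -/
theorem eq_one_of_trace {A A' : Matrix (Fin 3) (Fin 3) F} (hd : A.det = 1) (hi : A * A' = 1) {n : ℕ}
    (hn : A ^ n = 1) (hnF : (n : F) ≠ 0) (h3 : Nat.Coprime n 3) (hinv : A'.trace = A.trace)
    (hsq : (A * A).trace = A.trace) : A = 1 := by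
  have hs := Residual.cayley_inv hd hi
  rw [hinv] at hs
  have hc := Residual.cayley_three A
  rw [← hs, hd, one_smul] at hc
  rw [Residual.trace_sq_three, ← hs] at hsq
  have ht : A.trace * (A.trace - 3) = 0 := by linear_combination hsq
  rcases mul_eq_zero.1 ht with h0 | h0
  · have hA3 : A ^ 3 = 1 := by
      rw [h0, zero_smul, zero_smul, sub_zero, add_zero, sub_eq_zero] at hc
      rw [pow_succ, pow_two, hc]
    obtain ⟨k, hk⟩ : ∃ k, n = 3 * k + 1 ∨ n = 3 * k + 2 := by
      refine ⟨n / 3, ?_⟩
      have hnd : ¬ 3 ∣ n := fun hd3 => by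
        have := Nat.Coprime.eq_one_of_dvd (h3.symm) hd3
        omega
      omega
    rcases hk with rfl | rfl
    · rwa [pow_succ, pow_mul, hA3, one_pow, one_mul] at hn
    · rw [pow_add, pow_mul, hA3, one_pow, one_mul] at hn
      rwa [pow_succ, hn, one_mul] at hA3
  · rw [sub_eq_zero] at h0
    set E := A - 1 with hE
    have hA : A = 1 + E := (add_sub_cancel 1 A).symm
    have hE3 : E * E * E = 0 := by
      rw [h0] at hc
      rw [← hc, hE]
      simp only [sub_mul, mul_sub, mul_one, one_mul, ofNat_smul_eq_nsmul (R := F)]
      abel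
    have hbin : ∀ m : ℕ, E * A ^ m = E + (m : F) • (E * E) := by
      intro m
      induction m with
      | zero => simp
      | succ m ih =>
        rw [pow_succ, ← Matrix.mul_assoc, ih, hA, Matrix.mul_add, Matrix.mul_one, add_mul, Matrix.smul_mul, hE3,
          smul_zero, add_zero, Nat.cast_succ, add_smul, one_smul]
        abel
    have hEE : E * E = 0 := by
      have h := hbin n
      rw [hn, Matrix.mul_one, left_eq_add] at h
      exact (smul_eq_zero.1 h).resolve_left hnF
    have hlin : ∀ m : ℕ, A ^ m = 1 + (m : F) • E := by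
      intro m
      induction m with
      | zero => simp
      | succ m ih =>
        rw [pow_succ, ih, hA, Matrix.mul_add, Matrix.mul_one, add_mul, Matrix.one_mul, Matrix.smul_mul, hEE,
          smul_zero, add_zero, Nat.cast_succ, add_smul, one_smul]
        abel
    have h := hlin n
    rw [hn, left_eq_add] at h
    rw [hA, (smul_eq_zero.1 h).resolve_left hnF, add_zero]

end CfsgLib.Geo.SL3.Odd
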