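/-
Lifts of elements of order prime to three.
-/
import Cfsg.Agent.Lib.Geo.SL3.Odd.Basic
import Cfsg.Agent.Lib.Geo.SL3.Odd.TraceOne
import Cfsg.Agent.Lib.Geo.SL3.Residual.Shapes

set_option autoImplicit false

namespace CfsgLib.Geo.SL3.Odd

open Cfsg.Geo

variable {F : Type*} [Field F] {M N : Subgroup (GL (Fin 3) F)}

/-- A lift in the core of the same order, prime to three. -/
theorem Sit.exists_lift (hS : Sit M N) {x : Bar M} (hx : x ∈ hS.soc) {n : ℕ} (h3 : Nat.Coprime n 3)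
    (hn : x ^ n = 1) : ∃ g : M, (g : GL (Fin 3) F) ∈ N ∧ g ^ n = 1 ∧ (g : Bar M) = x := by
  obtain ⟨g, rfl⟩ := hx
  simp only [MonoidHom.comp_apply, QuotientGroup.mk'_apply] at hn ⊢
  set a : M := Subgroup.inclusion hS.sub g with ha
  obtain ⟨j, hj⟩ : ∃ j : ℕ, 3 ∣ j ∧ j % n = 1 % n := by
    obtain ⟨j, hj⟩ := Nat.chineseRemainder h3 1 0
    exact ⟨j, Nat.dvd_of_mod_eq_zero (by simpa [Nat.ModEq] using hj.2), hj.1⟩
  have hz : a ^ n ∈ (scalars (Fin 3) F).subgroupOf M := by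
    rw [← QuotientGroup.eq_one_iff, QuotientGroup.mk_pow]; exact hn
  refine ⟨a ^ j, ?_, ?_, ?_⟩
  · rw [SubmonoidClass.coe_pow]
    exact N.pow_mem g.2 j
  · obtain ⟨c, rfl⟩ := hj.1
    rw [← pow_mul, show 3 * c * n = n * 3 * c by ring, pow_mul, pow_mul,
      show (a ^ n) ^ 3 = 1 from ?_, one_pow]
    exact Residual.scalar_pow_three hS.le_sl hz
  · have h1 : (a : Bar M) ^ j = (a : Bar M) ^ 1 := by
      rw [← pow_mod_orderOf, ← Nat.mod_mod_of_dvd j (orderOf_dvd_of_pow_eq_one hn), hj.2,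
        Nat.mod_mod_of_dvd 1 (orderOf_dvd_of_pow_eq_one hn), pow_mod_orderOf]
    rw [QuotientGroup.mk_pow, h1, pow_one]

/-- Elements of order prime to three are determined modulo scalars. -/
theorem eq_of_bar_eq (hM : M ≤ specialLinear (Fin 3) F) {a b : M} {n : ℕ} (h3 : Nat.Coprime n 3)
    (ha : a ^ n = 1) (hb : b ^ n = 1) (h : (a : Bar M) = b) : a = b := by
  have hz := QuotientGroup.eq.1 h
  have hc : Commute a (a⁻¹ * b) := by
    refine Subtype.ext ?_
    exact (Trans.scalar_comm (Subgroup.mem_subgroupOf.1 hz) (a : GL (Fin 3) F)).eq.symm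
  have hn : (a⁻¹ * b) ^ n = 1 := by
    have h1 := hc.mul_pow n
    rw [mul_inv_cancel_left, hb, ha, one_mul] at h1
    exact h1.symm
  refine inv_mul_eq_one.1 (orderOf_eq_one_iff.1 (Nat.eq_one_of_dvd_coprimes h3 (orderOf_dvd_of_pow_eq_one hn) ?_))
  exact orderOf_dvd_of_pow_eq_one (Residual.scalar_pow_three hM hz)

/-- Conjugacy to a power, lifted. -/
theorem conj_lift (hM : M ≤ specialLinear (Fin 3) F) {g : M} {n : ℕ} (h3 : Nat.Coprime n 3) (hg : g ^ n = 1)
    {m : Bar M} {j : ℕ} (h : m * (g : Bar M) * m⁻¹ = (g : Bar M) ^ j) : ∃ k : M, k * g * k⁻¹ = g ^ j := by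
  obtain ⟨k, rfl⟩ := QuotientGroup.mk'_surjective _ m
  refine ⟨k, eq_of_bar_eq hM h3 ?_ ?_ ?_⟩
  · rw [conj_pow, hg, mul_one, mul_inv_cancel]
  · rw [← pow_mul, mul_comm, pow_mul, hg, one_pow]
  · simpa using h

theorem trace_conj (a b : GL (Fin 3) F) :
    ((a * b * a⁻¹ : GL (Fin 3) F) : Matrix (Fin 3) (Fin 3) F).trace = (b : Matrix (Fin 3) (Fin 3) F).trace := by
  rw [Units.val_mul, Units.val_mul, Matrix.trace_units_conj]

/-- The trace of a power conjugate to it. -/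
theorem trace_of_conj {g k : M} {i j : ℕ} (h : k * g ^ i * k⁻¹ = g ^ j) :
    (((g : GL (Fin 3) F) : Matrix (Fin 3) (Fin 3) F) ^ i).trace =
      (((g : GL (Fin 3) F) : Matrix (Fin 3) (Fin 3) F) ^ j).trace := by
  have h1 := congrArg (fun y : M => ((y : GL (Fin 3) F) : Matrix (Fin 3) (Fin 3) F).trace) h
  simp only [Subgroup.coe_mul, InvMemClass.coe_inv, trace_conj, SubmonoidClass.coe_pow,
    Units.val_pow_eq_pow_val] at h1
  exact h1

/-- No nontrivial element is conjugate to both its inverse and its square. -/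
theorem eq_one_of_two_conj (hM : M ≤ specialLinear (Fin 3) F) {g : M} {n : ℕ} (h3 : Nat.Coprime n 3)
    (hnF : (n : F) ≠ 0) (hg : g ^ n = 1)
    (hinv : (((g : GL (Fin 3) F) : Matrix (Fin 3) (Fin 3) F) ^ (n - 1)).trace =
      ((g : GL (Fin 3) F) : Matrix (Fin 3) (Fin 3) F).trace)
    (hsq : (((g : GL (Fin 3) F) : Matrix (Fin 3) (Fin 3) F) ^ 2).trace =
      ((g : GL (Fin 3) F) : Matrix (Fin 3) (Fin 3) F).trace) : g = 1 := by
  have hn0 : n ≠ 0 := fun h => hnF (by rw [h, Nat.cast_zero])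
  have hval : ((g : GL (Fin 3) F) : Matrix (Fin 3) (Fin 3) F) ^ n = 1 := by
    rw [← Units.val_pow_eq_pow_val, ← SubmonoidClass.coe_pow, hg]; rfl
  refine Subtype.ext (Units.ext ?_)
  refine eq_one_of_trace (congrArg Units.val (show Matrix.GeneralLinearGroup.det (g : GL (Fin 3) F) = 1 from hM g.2))
    ?_ hval hnF h3 hinv (by rw [← pow_two]; exact hsq)
  rw [← pow_succ', Nat.sub_add_cancel (Nat.pos_of_ne_zero hn0), hval]

end CfsgLib.Geo.SL3.Odd
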