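/-
Cores with real traces: the group embeds in the Möbius group.
-/
import Cfsg.Agent.Lib.Geo.SL3.Odd.Basic
import Cfsg.Agent.Lib.Geo.SL3.Residual.Shapes
import Cfsg.Agent.Lib.Geo.SL3.Maximal.QuadOrder
import Cfsg.Agent.Lib.Char.HalfDegree.Conic
import Cfsg.Agent.Lib.Classical.Dickson.MinimalSimple
import Cfsg.Agent.Lib.Geo.PGLTwoClassify
import Cfsg.Agent.Lib.Classical.SmallIsoSix

set_option autoImplicit false

namespace CfsgLib.Geo.SL3.Odd

open Matrix Cfsg.Geo CfsgLib.Classical.Dickson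
open scoped MatrixGroups commutatorElement

variable {L : Type*} [Field L]

theorem solvable_of_fix (p : ℕ) [Fact p.Prime] [CharP L p] {G : Subgroup (Mob L)} {x : Pt L}
    (hx : ∀ g : G, g • x = x) : Group.IsSolvable G := by
  refine isSolvable_of_commutators_commute fun a b c d => ?_
  have hfix : ∀ g : G, (g : Mob L) • x = x := hx
  have hp : ∀ a b : G, (⁅a, b⁆ : G).1 ^ p = 1 := fun a b => by
    rw [show (⁅a, b⁆ : G).1 = ⁅(a : Mob L), (b : Mob L)⁆ from map_commutatorElement G.subtype a b]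
    exact comm_pow_char_of_fix p (hfix a) (hfix b)
  exact Subtype.ext (commute_of_unip p (hfix ⁅a, b⁆) (hfix ⁅c, d⁆) (hp a b) (hp c d)).eq

theorem dvd_exp {p b α : ℕ} (hp : p.Prime) (hb : 3 < p ^ b)
    (h : p ^ b * ((p ^ b) ^ 2 - 1) ∣ 2 * (p ^ α * ((p ^ α) ^ 2 - 1))) : b ∣ α := by
  have hb0 : b ≠ 0 := fun h0 => by rw [h0, pow_zero] at hb; omega
  have hcop : Nat.Coprime ((p ^ b) ^ 2 - 1) (p ^ α) := by
    refine Nat.Coprime.pow_right _ ((Nat.coprime_comm).2 ((hp.coprime_iff_not_dvd).2 fun hd => ?_))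
    have h1 : 1 ≤ (p ^ b) ^ 2 := Nat.one_le_pow _ _ (by omega)
    have h2 : p ∣ (p ^ b) ^ 2 := Dvd.dvd.pow (dvd_pow_self p hb0) two_ne_zero
    have := Nat.dvd_sub h2 hd
    rw [show (p ^ b) ^ 2 - ((p ^ b) ^ 2 - 1) = 1 by omega] at this
    exact hp.not_dvd_one this
  have hd : (p ^ b) ^ 2 - 1 ∣ 2 * ((p ^ α) ^ 2 - 1) := by
    have := (dvd_mul_left _ _).trans h
    rw [mul_left_comm] at this
    exact hcop.dvd_of_dvd_mul_left this
  set g := Nat.gcd b α with hg
  have hd2 : (p ^ b) ^ 2 - 1 ∣ 2 * ((p ^ g) ^ 2 - 1) := by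
    have e : Nat.gcd ((p ^ b) ^ 2 - 1) ((p ^ α) ^ 2 - 1) = (p ^ g) ^ 2 - 1 := by
      rw [← pow_mul, ← pow_mul, Nat.pow_sub_one_gcd_pow_sub_one, Nat.gcd_mul_right, hg, pow_mul]
    rw [← e, ← Nat.gcd_mul_left]
    exact Nat.dvd_gcd (dvd_mul_left _ _) hd
  rcases (Nat.le_of_dvd (Nat.pos_of_ne_zero hb0) (Nat.gcd_dvd_left b α)).lt_or_eq with hlt | he
  · exfalso
    have hgb : g * 2 ≤ b := by
      obtain ⟨t, ht⟩ := Nat.gcd_dvd_left b α
      rw [← hg] at ht
      rcases Nat.lt_or_ge t 2 with h' | h'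
      · interval_cases t <;> omega
      · calc g * 2 ≤ g * t := Nat.mul_le_mul_left g h'
          _ = b := ht.symm
    rcases Nat.eq_zero_or_pos g with hg0 | hg0
    · have := Nat.gcd_eq_zero_iff.1 hg0
      exact hb0 this.1
    · have h1 : p ≤ p ^ g := Nat.le_self_pow hg0.ne' p
      have h2 := hp.two_le
      have hpos : 0 < (p ^ g) ^ 2 - 1 := by
        have : 2 ^ 2 ≤ (p ^ g) ^ 2 := Nat.pow_le_pow_left (by omega) 2
        omega
      have hle := Nat.le_of_dvd (by omega) hd2
      have h3 : (p ^ g) ^ 2 ≤ p ^ b := by rw [← pow_mul]; exact Nat.pow_le_pow_right hp.pos hgb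
      have h4 : 4 * p ^ b ≤ (p ^ b) ^ 2 := by rw [pow_two]; exact Nat.mul_le_mul_right _ hb
      omega
  · exact he ▸ Nat.gcd_dvd_right b α

variable {F : Type*} [Field F] [Fintype F] {M N : Subgroup (GL (Fin 3) F)}

/-- An injective map to isometries of determinant one. -/
theorem exists_iso_hom (hS : Sit M N) {Q : (Fin 3 → F) → F} (hQ : IsNondegenerateQuadraticForm Q)
    (hle : M ≤ quadSimilarityGroup Q) :
    ∃ ψ : Bar M →* (Cfsg.isometryGroup F Q ⊓ specialLinear (Fin 3) F : Subgroup (GL (Fin 3) F)),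
      Function.Injective ψ := by
  classical
  let I : Subgroup (GL (Fin 3) F) := Cfsg.isometryGroup F Q ⊓ specialLinear (Fin 3) F
  obtain ⟨v₀, hv₀⟩ := Maximal.exists_ne_zero hQ
  have huniq : ∀ {g : GL (Fin 3) F} {a b : Fˣ}, (∀ v, Q ((g : Matrix (Fin 3) (Fin 3) F) *ᵥ v) = (a : F) * Q v) →
      (∀ v, Q ((g : Matrix (Fin 3) (Fin 3) F) *ᵥ v) = (b : F) * Q v) → a = b := fun ha hb =>
    Units.ext (mul_right_cancel₀ hv₀ ((ha v₀).symm.trans (hb v₀)))
  choose! c hc using fun g (hg : g ∈ M) => hle hg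
  let z : Fˣ →* GL (Fin 3) F := Units.map (Matrix.scalar (Fin 3) : F →+* Matrix (Fin 3) (Fin 3) F).toMonoidHom
  have hzval : ∀ a : Fˣ, (z a : Matrix (Fin 3) (Fin 3) F) = (a : F) • 1 := fun a => by
    rw [Matrix.smul_one_eq_diagonal]; rfl
  have hc3 : ∀ g ∈ M, c g ^ 3 = 1 := fun g hg =>
    Units.ext (by rw [Units.val_pow_eq_pow_val]; exact Maximal.multiplier_cube hQ (hS.le_sl hg) (hc g hg))
  have hmemI : ∀ g ∈ M, z (c g) * g ∈ I := by
    intro g hg
    have hd : Matrix.GeneralLinearGroup.det (z (c g) * g) = 1 := by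
      rw [map_mul, show Matrix.GeneralLinearGroup.det g = 1 from hS.le_sl hg, mul_one]
      refine Units.ext ?_
      show ((z (c g) : GL (Fin 3) F) : Matrix (Fin 3) (Fin 3) F).det = 1
      rw [hzval, Matrix.det_smul, Matrix.det_one, mul_one, Fintype.card_fin, ← Units.val_pow_eq_pow_val, hc3 g hg,
        Units.val_one]
    refine ⟨Maximal.mem_isometry.2 fun v => ?_, hd⟩
    rw [Units.val_mul, hzval, ← Matrix.mulVec_mulVec, Matrix.smul_mulVec, Matrix.one_mulVec, hQ.smul, hc g hg,
      ← mul_assoc, ← Units.val_pow_eq_pow_val, ← Units.val_mul, ← pow_succ, hc3 g hg, Units.val_one, one_mul]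
  have hcmul : ∀ a ∈ M, ∀ b ∈ M, c (a * b) = c a * c b := fun a ha b hb =>
    huniq (hc _ (M.mul_mem ha hb)) fun v => by
      rw [Units.val_mul a, ← Matrix.mulVec_mulVec, hc a ha, hc b hb, Units.val_mul, mul_assoc]
  let θ : M →* I := MonoidHom.mk' (fun g => ⟨z (c g) * g, hmemI g g.2⟩) fun a b => by
    refine Subtype.ext ?_
    show z (c ((a : GL (Fin 3) F) * b)) * ((a : GL (Fin 3) F) * b) = z (c a) * a * (z (c b) * b)
    rw [hcmul _ a.2 _ b.2, map_mul]
    have hcm : Commute (z (c b)) (a : GL (Fin 3) F) :=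
      Trans.scalar_comm ((mem_scalars_iff _).2 ⟨c b, hzval _⟩) _
    rw [mul_assoc, mul_assoc, ← mul_assoc (z (c b)), hcm.eq, mul_assoc]
  have hker : θ.ker = (scalars (Fin 3) F).subgroupOf M := by
    ext g
    rw [MonoidHom.mem_ker, Subgroup.mem_subgroupOf]
    have hsc : ∀ a : Fˣ, z a ∈ scalars (Fin 3) F := fun a => (mem_scalars_iff _).2 ⟨a, hzval a⟩
    constructor
    · intro h
      have h1 : z (c g) * (g : GL (Fin 3) F) = 1 := congrArg Subtype.val h
      rw [mul_eq_one_iff_eq_inv'] at h1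
      rw [h1]
      exact (scalars (Fin 3) F).inv_mem (hsc _)
    · intro h
      obtain ⟨a, ha⟩ := (mem_scalars_iff _).1 h
      have hga : (g : GL (Fin 3) F) = z a := Units.ext (ha.trans (hzval a).symm)
      have ha3 : a ^ 3 = 1 := by
        have := hS.le_sl g.2
        refine Units.ext ?_
        have hd := congrArg Units.val (show Matrix.GeneralLinearGroup.det (g : GL (Fin 3) F) = 1 from this)
        change ((g : GL (Fin 3) F) : Matrix (Fin 3) (Fin 3) F).det = 1 at hd
        rw [ha, Matrix.det_smul, Matrix.det_one, mul_one, Fintype.card_fin] at hd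
        rw [Units.val_pow_eq_pow_val, hd, Units.val_one]
      have hca : c g = a ^ 2 := huniq (hc _ g.2) fun v => by
        rw [ha, Matrix.smul_mulVec, Matrix.one_mulVec, hQ.smul, Units.val_pow_eq_pow_val]
      refine Subtype.ext ?_
      show z (c g) * (g : GL (Fin 3) F) = 1
      rw [hca, hga, ← map_mul, ← pow_succ, ha3, map_one]
  exact ⟨(QuotientGroup.kerLift θ).comp (QuotientGroup.quotientMulEquivOfEq hker.symm).toMonoidHom,
    (QuotientGroup.kerLift_injective θ).comp (MulEquiv.injective _)⟩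

/-- The subgroups with real traces. -/
theorem orth_cases (p α : ℕ) [Fact p.Prime] [CharP F p] (hp : p ≠ 2) (hF : Fintype.card F = p ^ α)
    (hS : Sit M N) (h : Residual.TraceMap N 1 (-1)) :
    (∃ (K : Type) (_ : Field K) (_ : Fintype K) (β : ℕ), Fintype.card K = p ^ β ∧ β ∣ α ∧ p ^ β ≠ 3 ∧
      (Nonempty (Bar M ≃* Matrix.ProjectiveSpecialLinearGroup (Fin 2) K) ∨
        Nonempty (Bar M ≃* (GL (Fin 2) K ⧸ Subgroup.center (GL (Fin 2) K))))) ∨
    ((p ^ α % 10 = 1 ∨ p ^ α % 10 = 9) ∧ ∃ (K : Type) (_ : Field K) (_ : Fintype K), Fintype.card K = 5 ∧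
      Nonempty (Bar M ≃* Matrix.ProjectiveSpecialLinearGroup (Fin 2) K)) := by
  classical
  have hpp := (Fact.out : p.Prime)
  have h2 : (2 : F) ≠ 0 := by
    intro h'
    have h'' : ((2 : ℕ) : F) = 0 := by exact_mod_cast h'
    rw [CharP.cast_eq_zero_iff F p] at h''
    exact hp ((Nat.prime_dvd_prime_iff_eq hpp Nat.prime_two).1 h'')
  have hα0 : α ≠ 0 := fun h0 => by
    have := Fintype.one_lt_card (α := F)
    rw [hF, h0] at this
    simp at this
  obtain ⟨Q, hQ, hfix⟩ := Residual.exists_quad hS.core.absIrred h2 h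
  obtain ⟨-, hle⟩ := Asch.le_quadSimilarityGroup (by decide : Odd (Fintype.card (Fin 3))) hS.normal hS.core.absIrred
    hQ hfix
  obtain ⟨ψ, hψ⟩ := exists_iso_hom hS hQ hle
  have hdiv : Nat.card (Bar M) ∣ p ^ α * ((p ^ α) ^ 2 - 1) := by
    have := Subgroup.card_dvd_of_injective ψ hψ
    rwa [Maximal.card_special_isometry hQ h2, hF] at this
  -- over the algebraic closure
  set k := AlgebraicClosure F
  haveI : CharP k p := charP_of_injective_algebraMap (algebraMap F k).injective p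
  let ι : F →+* k := algebraMap F k
  have hk2 : (2 : k) ≠ 0 := fun e => h2 (ι.injective (by rw [map_ofNat, map_zero, e]))
  set S : Matrix (Fin 3) (Fin 3) F :=
    Matrix.of fun i j => QuadraticMap.polar Q (Pi.single i 1) (Pi.single j 1) with hSdef
  let B : LinearMap.BilinForm k (Fin 3 → k) := Matrix.toBilin' (S.map ι)
  have hB : ∀ a b, B a b = a ⬝ᵥ (S.map ι *ᵥ b) := fun a b => Matrix.toBilin'_apply' _ a b
  have hsymS : ∀ i j, S i j = S j i := fun i j => QuadraticMap.polar_comm _ _ _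
  have hsym : ∀ a b, B a b = B b a := fun a b => by
    rw [hB, hB]
    simp only [dotProduct, Matrix.mulVec, Fin.sum_univ_three, Matrix.map_apply, hsymS 1 0, hsymS 2 0, hsymS 2 1]
    ring
  have hnd : ∀ a, (∀ b, B a b = 0) → a = 0 := by
    intro a ha
    by_contra ha0
    have hd : (S.map ι).det ≠ 0 := by
      rw [← RingHom.mapMatrix_apply, ← RingHom.map_det]
      exact fun e => Maximal.gram_det_ne_zero hQ (ι.injective (e.trans (map_zero ι).symm))
    refine hd (Matrix.exists_vecMul_eq_zero_iff.1 ⟨a, ha0, ?_⟩)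
    funext j
    have := ha (Pi.single j 1)
    rwa [hB, Matrix.dotProduct_mulVec, dotProduct_single, mul_one] at this
  let σ : (Cfsg.isometryGroup F Q ⊓ specialLinear (Fin 3) F : Subgroup (GL (Fin 3) F)) →*
      Module.End k (Fin 3 → k) :=
    { toFun := fun g => Matrix.toLin' (((g : GL (Fin 3) F) : Matrix (Fin 3) (Fin 3) F).map ι)
      map_one' := by
        rw [OneMemClass.coe_one, Units.val_one, Matrix.map_one ι (map_zero _) (map_one _), Matrix.toLin'_one]
        rfl
      map_mul' := fun a b => by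
        rw [Subgroup.coe_mul, Units.val_mul, Matrix.map_mul, Matrix.toLin'_mul]
        rfl }
  have hinv : ∀ g a b, B (σ g a) (σ g b) = B a b := by
    intro g a b
    have e : ((g : GL (Fin 3) F) : Matrix (Fin 3) (Fin 3) F)ᵀ * S * ((g : GL (Fin 3) F) : Matrix (Fin 3) (Fin 3) F) = S := by
      ext i j
      have h1 : ∀ A : Matrix (Fin 3) (Fin 3) F, A i j = Pi.single i 1 ⬝ᵥ (A *ᵥ Pi.single j 1) := fun A => by simp
      rw [h1 (_ * S * _), h1 S, ← Matrix.mulVec_mulVec, ← Matrix.mulVec_mulVec, Matrix.dotProduct_mulVec,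
        Matrix.vecMul_transpose, ← Maximal.gram_eq hQ, ← Maximal.gram_eq hQ]
      simp only [QuadraticMap.polar, ← Matrix.mulVec_add, Maximal.mem_isometry.1 g.2.1]
    show B ((((g : GL (Fin 3) F) : Matrix (Fin 3) (Fin 3) F).map ι) *ᵥ a)
      ((((g : GL (Fin 3) F) : Matrix (Fin 3) (Fin 3) F).map ι) *ᵥ b) = _
    rw [hB, hB, Matrix.dotProduct_mulVec, Matrix.vecMul_mulVec, Matrix.dotProduct_mulVec, Matrix.vecMul_vecMul,
      ← Matrix.dotProduct_mulVec, ← Matrix.transpose_map, ← Matrix.map_mul, ← Matrix.map_mul, e]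
  obtain ⟨v, hv0, hvv⟩ : ∃ v : Fin 3 → k, v ≠ 0 ∧ B v v = 0 := by
    have e0 : ∀ x y : k, B ![x, y, 0] ![x, y, 0] =
        ι (S 0 0) * x ^ 2 + 2 * ι (S 0 1) * x * y + ι (S 1 1) * y ^ 2 := fun x y => by
      rw [hB]
      simp only [dotProduct, Matrix.mulVec, Fin.sum_univ_three, Matrix.map_apply, hsymS 1 0, Matrix.cons_val_zero,
        Matrix.cons_val_one, Matrix.cons_val_two, Matrix.head_cons, Matrix.tail_cons]
      ring
    by_cases h0 : ι (S 0 0) = 0
    · exact ⟨![1, 0, 0], fun e => one_ne_zero (congrFun e 0), by rw [e0, h0]; ring⟩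
    obtain ⟨s, hs⟩ := IsAlgClosed.exists_pow_nat_eq (ι (S 0 1) ^ 2 - ι (S 0 0) * ι (S 1 1)) (n := 2) two_pos
    refine ⟨![(s - ι (S 0 1)) / ι (S 0 0), 1, 0], fun e => one_ne_zero (congrFun e 1), ?_⟩
    rw [e0]
    have ht : ι (S 0 0) * ((s - ι (S 0 1)) / ι (S 0 0)) = s - ι (S 0 1) := mul_div_cancel₀ _ h0
    refine (mul_eq_zero.1 ?_).resolve_left h0
    linear_combination (ι (S 0 0) * ((s - ι (S 0 1)) / ι (S 0 0)) + s + ι (S 0 1)) * ht + hs
  obtain ⟨φ, hφ⟩ := CfsgLib.Char.HalfDegree.exists_mob_hom hk2 σ B hsym hnd hinv hv0 hvv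
  have hφinj : Function.Injective φ := by
    refine (injective_iff_map_eq_one φ).2 fun g hg => ?_
    set A : Matrix (Fin 3) (Fin 3) k := ((g : GL (Fin 3) F) : Matrix (Fin 3) (Fin 3) F).map ι with hA
    rcases (hφ g).1 hg with e | e
    · refine Subtype.ext (Units.ext ?_)
      have e' : A = 1 := Matrix.toLin'.injective (e.trans Matrix.toLin'_one.symm)
      exact Matrix.map_injective ι.injective (e'.trans (Matrix.map_one ι (map_zero _) (map_one _)).symm)
    · exfalso
      have e' : A = -1 := Matrix.toLin'.injective (by rw [map_neg, Matrix.toLin'_one]; exact e)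
      have hd : A.det = 1 := by
        rw [hA, ← RingHom.mapMatrix_apply, ← RingHom.map_det,
          show ((g : GL (Fin 3) F) : Matrix (Fin 3) (Fin 3) F).det = 1 from Maximal.det_one_of_mem g.2.2, map_one]
      rw [e', Matrix.det_neg, Matrix.det_one, Fintype.card_fin] at hd
      exact hk2 (by linear_combination -hd)
  let f : Bar M →* Mob k := φ.comp ψ
  have hf : Function.Injective f := hφinj.comp hψ
  haveI : Finite f.range := Finite.of_surjective _ f.rangeRestrict_surjective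
  let eG : Bar M ≃* f.range := MonoidHom.ofInjective hf
  have hns : ¬ Group.IsSolvable f.range := fun hs => hS.not_solvable (isSolvable_of_equiv eG hs)
  rcases structure_cases (G := f.range) (p := p) with
      ⟨hC, -⟩ | ⟨-, x, hx⟩ | ⟨n, -, -, -, ⟨e⟩⟩ | ⟨⟨e⟩⟩ | ⟨⟨e⟩⟩ | ⟨⟨e⟩⟩ | hsub
  · exact absurd (isSolvable_of_commutators_commute fun a b c d =>
      (IsCyclic.commGroup (α := f.range)).mul_comm _ _) hns
  · exact absurd (solvable_of_fix p hx) hns
  · exact absurd (isSolvable_of_commutators_commute (commutators_commute_dihedral e)) hns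
  · refine absurd (isSolvable_of_equiv e ?_) hns
    haveI := isSolvable_perm_four
    exact Group.isSolvable_of_isSolvable_injective (f := (alternatingGroup (Fin 4)).subtype) Subtype.val_injective
  · exact absurd (isSolvable_of_equiv e isSolvable_perm_four) hns
  · haveI : Fact (Nat.Prime 5) := ⟨Nat.prime_five⟩
    obtain ⟨e5⟩ := CfsgLib.Classical.nonempty_psl_five_equiv_alt (F := ZMod 5) (ZMod.card 5)
    by_cases h5 : p = 5
    · subst h5
      exact Or.inl ⟨ZMod 5, inferInstance, inferInstance, 1, by rw [ZMod.card, pow_one], one_dvd _, by norm_num,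
        Or.inl ⟨eG.trans (e.trans e5.symm)⟩⟩
    refine Or.inr ⟨?_, ZMod 5, inferInstance, inferInstance, ZMod.card 5, ⟨eG.trans (e.trans e5.symm)⟩⟩
    have h60 : Nat.card (Bar M) = 60 := by
      rw [Nat.card_congr (eG.trans e).toEquiv, nat_card_alternatingGroup, Nat.card_fin]; rfl
    rw [h60] at hdiv
    have hodd : p ^ α % 2 = 1 := by
      rw [Nat.pow_mod, hpp.eq_two_or_odd.resolve_left hp]; simp
    rcases Nat.prime_five.dvd_mul.1 ((show (5 : ℕ) ∣ 60 by norm_num).trans hdiv) with hd | hd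
    · exact absurd ((Nat.prime_dvd_prime_iff_eq Nat.prime_five hpp).1 (Nat.prime_five.dvd_of_dvd_pow hd)).symm h5
    · set x := p ^ α
      have h1 : 1 ≤ x ^ 2 := Nat.one_le_pow _ _ (Nat.pos_of_ne_zero fun h0 => by rw [h0] at hodd; simp at hodd)
      have h2' : x ^ 2 % 5 = x % 5 * (x % 5) % 5 := by rw [pow_two, Nat.mul_mod]
      have h3 : x ^ 2 % 5 = 1 := by omega
      rw [h3] at h2'
      have h4 : x % 5 < 5 := Nat.mod_lt _ (by norm_num)
      interval_cases hx5 : x % 5 <;> simp at h2' <;> omega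
  · obtain ⟨K, g, hK, hKG⟩ := exists_subfield hsub
    haveI : Finite K := hK
    letI : Fintype K := Fintype.ofFinite K
    haveI : CharP K p := (K.subtype.charP_iff K.subtype.injective p).2 inferInstance
    obtain ⟨b, -, hb⟩ := FiniteField.card K p
    obtain ⟨K', i1, i2, hK', ⟨r⟩⟩ := exists_small_field (K := K)
    have hcK : Nat.card K = p ^ (b : ℕ) := by rw [Nat.card_eq_fintype_card, hb]
    let eC := f.range.equivMapOfInjective (MulAut.conj g).toMonoidHom (MulAut.conj g).injective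
    have hodd : Odd (Fintype.card K) := by
      rw [hb, Nat.odd_iff, Nat.pow_mod, hpp.eq_two_or_odd.resolve_left hp]; simp
    have hne3 : p ^ (b : ℕ) ≠ 3 := by
      intro h3
      have h3' : Fintype.card K = 3 := hb.trans h3
      rcases hKG with e | ⟨-, e⟩
      · obtain ⟨e3⟩ := pgl_three_equiv K h3'
        exact hns (isSolvable_of_equiv ((eC.trans (MulEquiv.subgroupCongr e)).trans
          ((MonoidHom.ofInjective (mapPGL_injective K)).symm.trans e3.symm)) isSolvable_perm_four)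
      · obtain ⟨e3⟩ := psl_three_equiv K h3'
        haveI := isSolvable_perm_four
        exact hns (isSolvable_of_equiv ((eC.trans (MulEquiv.subgroupCongr e)).trans
          ((MonoidHom.ofInjective (mapPSL_injective K)).symm.trans e3.symm))
          (Group.isSolvable_of_isSolvable_injective (f := (alternatingGroup (Fin 4)).subtype) Subtype.val_injective))
    have h3lt : 3 < p ^ (b : ℕ) := by
      have h1 : p ≤ p ^ (b : ℕ) := Nat.le_self_pow b.pos.ne' p
      have := hpp.two_le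
      omega
    refine Or.inl ⟨K', i1, i2, b, by rw [hK', hcK], ?_, hne3, ?_⟩
    · refine dvd_exp hpp h3lt ?_
      rcases hKG with e | ⟨-, e⟩
      · have hc := Nat.card_congr ((eG.trans eC).trans ((MulEquiv.subgroupCongr e).trans
          (MonoidHom.ofInjective (mapPGL_injective K)).symm)).toEquiv
        rw [PGLTwo.card_pgl', hcK] at hc
        exact (hc ▸ hdiv).trans (dvd_mul_left _ _)
      · have hc := Nat.card_congr ((eG.trans eC).trans ((MulEquiv.subgroupCongr e).trans
          (MonoidHom.ofInjective (mapPSL_injective K)).symm)).toEquiv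
        have h2c := PGLTwo.two_mul_card_psl (F := K) hodd
        rw [hb, ← hc] at h2c
        rw [← h2c]
        exact Nat.mul_dvd_mul_left 2 hdiv
    · rcases hKG with e | ⟨-, e⟩
      · exact Or.inr ⟨((eG.trans eC).trans ((MulEquiv.subgroupCongr e).trans
          (MonoidHom.ofInjective (mapPGL_injective K)).symm)).trans (pglCongr r.symm)⟩
      · exact Or.inl ⟨((eG.trans eC).trans ((MulEquiv.subgroupCongr e).trans
          (MonoidHom.ofInjective (mapPSL_injective K)).symm)).trans (pslCongr r.symm)⟩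

end CfsgLib.Geo.SL3.Odd
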