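/-
A subgroup of PSL(3) with no abelian normal subgroup comes from a group with a normal core.
-/
import Cfsg.Agent.Lib.Geo.SL3.Odd.Basic
import Cfsg.Agent.Lib.OddLocal.Final.OddOrder

set_option autoImplicit false

namespace CfsgLib.Geo.SL3.Odd

open Matrix Cfsg.Geo CfsgLib.Geo.SL3.Trans
open scoped MatrixGroups commutatorElement

theorem abelian_normal_eq_bot {G : Type*} [Group G] [Finite G]
    (hN : ∀ N : Subgroup G, N.Normal → IsMulCommutative N → (∃ r : ℕ, r.Prime ∧ ∀ x ∈ N, x ^ r = 1) → N = ⊥)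
    (A : Subgroup G) (hA : A.Normal) (hc : ∀ a ∈ A, ∀ b ∈ A, a * b = b * a) : A = ⊥ := by
  by_contra hne
  have h1 : Nat.card A ≠ 1 := fun h => hne (Subgroup.card_eq_one.1 h)
  obtain ⟨r, hr, hrd⟩ := Nat.exists_prime_and_dvd h1
  haveI : Fact r.Prime := ⟨hr⟩
  let Ω : Subgroup G :=
    { carrier := {x | x ∈ A ∧ x ^ r = 1}
      one_mem' := ⟨A.one_mem, one_pow r⟩
      mul_mem' := fun {a b} ha hb => ⟨A.mul_mem ha.1 hb.1, by
        rw [(show Commute a b from hc a ha.1 b hb.1).mul_pow, ha.2, hb.2, one_mul]⟩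
      inv_mem' := fun {a} ha => ⟨A.inv_mem ha.1, by rw [inv_pow, ha.2, inv_one]⟩ }
  have hΩ : Ω.Normal := ⟨fun x hx g => ⟨hA.conj_mem x hx.1 g, by rw [conj_pow, hx.2, mul_one, mul_inv_cancel]⟩⟩
  have hb := hN Ω hΩ ⟨⟨fun a b => Subtype.ext (hc a a.2.1 b b.2.1)⟩⟩ ⟨r, hr, fun x hx => hx.2⟩
  obtain ⟨x, hx⟩ := exists_prime_orderOf_dvd_card' (G := A) r hrd
  have hm : (x : G) ∈ Ω := ⟨x.2, by rw [← Subgroup.coe_pow, ← hx, pow_orderOf_eq_one, Subgroup.coe_one]⟩
  rw [hb, Subgroup.mem_bot] at hm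
  rw [show x = 1 from Subtype.ext hm, orderOf_one] at hx
  exact hr.ne_one hx.symm

variable {F : Type*} [Field F]

local notation "M3" => Matrix (Fin 3) (Fin 3) F

/-- Abelian modulo scalars and normal implies scalar. -/
def NoAbelianNormal (M : Subgroup (GL (Fin 3) F)) : Prop :=
  ∀ A : Subgroup (GL (Fin 3) F), A ≤ M → (∀ h ∈ M, ∀ x ∈ A, h * x * h⁻¹ ∈ A) →
    (∀ a ∈ A, ∀ b ∈ A, ⁅a, b⁆ ∈ scalars (Fin 3) F) → A ≤ scalars (Fin 3) F

/-- The block below the corner. -/
def blk (A : M3) : Matrix (Fin 2) (Fin 2) F := !![A 1 1, A 1 2; A 2 1, A 2 2]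

theorem blk_mul {A : M3} (h1 : A 1 0 = 0) (h2 : A 2 0 = 0) (B : M3) : blk (A * B) = blk A * blk B := by
  ext i j
  fin_cases i <;> fin_cases j <;> simp [blk, Matrix.mul_apply, Fin.sum_univ_succ, h1, h2]

theorem corner_mul (A : M3) {B : M3} (h1 : B 1 0 = 0) (h2 : B 2 0 = 0) : (A * B) 0 0 = A 0 0 * B 0 0 := by
  simp [Matrix.mul_apply, Fin.sum_univ_succ, h1, h2]

theorem det_corner {A : M3} (h1 : A 1 0 = 0) (h2 : A 2 0 = 0) : A.det = A 0 0 * (blk A).det := by
  simp [Matrix.det_fin_three, blk, Matrix.det_fin_two_of, h1, h2]; ring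

theorem blk_involution (h2 : (2 : F) ≠ 0) {A : Matrix (Fin 2) (Fin 2) F} (hsq : A * A = 1) (hd : A.det = 1) :
    A = 1 ∨ A = -1 := by
  have e00 := congrFun (congrFun hsq 0) 0
  have e01 := congrFun (congrFun hsq 0) 1
  have e10 := congrFun (congrFun hsq 1) 0
  have e11 := congrFun (congrFun hsq 1) 1
  simp [Matrix.mul_apply, Fin.sum_univ_two] at e00 e01 e10 e11
  rw [Matrix.det_fin_two] at hd
  have ht : A 0 0 * (A 0 0 + A 1 1) = 2 := by linear_combination e00 + hd
  have hs : A 0 0 + A 1 1 ≠ 0 := fun h => h2 (by rw [← ht, h, mul_zero])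
  have hb : A 0 1 = 0 := (mul_eq_zero.1 (show A 0 1 * (A 0 0 + A 1 1) = 0 by linear_combination e01)).resolve_right hs
  have hc : A 1 0 = 0 := (mul_eq_zero.1 (show A 1 0 * (A 0 0 + A 1 1) = 0 by linear_combination e10)).resolve_right hs
  rw [hb, zero_mul, add_zero, mul_self_eq_one_iff] at e00
  have had : A 0 0 = A 1 1 := by
    rw [hb, hc] at hd
    rcases e00 with h | h <;> rw [h] at hd ⊢
    · linear_combination -hd
    · linear_combination hd
  rcases e00 with h | h
  · left; ext i j; fin_cases i <;> fin_cases j <;> simp [hb, hc, ← had, h]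
  · right; ext i j; fin_cases i <;> fin_cases j <;> simp [hb, hc, ← had, h]

/-- No perfect non-scalar normal subgroup when a coordinate line is fixed. -/
theorem false_of_corner [Finite F] (h2 : (2 : F) ≠ 0) {M N : Subgroup (GL (Fin 3) F)}
    (hM : M ≤ specialLinear (Fin 3) F) (hA : NoAbelianNormal M) (hNM : N ≤ M)
    (hn : ∀ h ∈ M, ∀ x ∈ N, h * x * h⁻¹ ∈ N) (hp : ⁅N, N⁆ = N) (hNs : ¬ N ≤ scalars (Fin 3) F)
    (hz : ∀ g ∈ M, (g : M3) 1 0 = 0 ∧ (g : M3) 2 0 = 0) : False := by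
  classical
  have cmul : ∀ (g : GL (Fin 3) F) {g' : GL (Fin 3) F}, g' ∈ M →
      ((g * g' : GL (Fin 3) F) : M3) 0 0 = (g : M3) 0 0 * (g' : M3) 0 0 := fun g g' h => by
    rw [Units.val_mul]; exact corner_mul _ (hz g' h).1 (hz g' h).2
  have bmul : ∀ {g : GL (Fin 3) F}, g ∈ M → ∀ g' : GL (Fin 3) F,
      blk ((g * g' : GL (Fin 3) F) : M3) = blk (g : M3) * blk (g' : M3) := fun h g' => by
    rw [Units.val_mul]; exact blk_mul (hz _ h).1 (hz _ h).2 _
  have cinv : ∀ {g : GL (Fin 3) F}, g ∈ M → (g : M3) 0 0 * ((g⁻¹ : GL (Fin 3) F) : M3) 0 0 = 1 := fun h => by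
    rw [← cmul _ (M.inv_mem h), mul_inv_cancel, Units.val_one, Matrix.one_apply_eq]
  let C : Subgroup (GL (Fin 3) F) :=
    { carrier := {g | g ∈ M ∧ (g : M3) 0 0 = 1}
      one_mem' := ⟨M.one_mem, by simp⟩
      mul_mem' := fun {a b} ha hb => ⟨M.mul_mem ha.1 hb.1, by rw [cmul a hb.1, ha.2, hb.2, mul_one]⟩
      inv_mem' := fun {a} ha => ⟨M.inv_mem ha.1, by have := cinv ha.1; rwa [ha.2, one_mul] at this⟩ }
  have hNC : N ≤ C := by
    rw [← hp, Subgroup.commutator_le]
    intro a ha b hb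
    have ha' := hNM ha
    have hb' := hNM hb
    refine ⟨M.mul_mem (M.mul_mem (M.mul_mem ha' hb') (M.inv_mem ha')) (M.inv_mem hb'), ?_⟩
    rw [commutatorElement_def, cmul _ (M.inv_mem hb'), cmul _ (M.inv_mem ha'), cmul a hb']
    have e1 := cinv ha'
    have e2 := cinv hb'
    linear_combination ((b : M3) 0 0 * ((b⁻¹ : GL (Fin 3) F) : M3) 0 0) * e1 + e2
  let K : Subgroup (GL (Fin 3) F) :=
    { carrier := {g | g ∈ N ∧ blk (g : M3) = 1}
      one_mem' := ⟨N.one_mem, by ext i j; fin_cases i <;> fin_cases j <;> simp [blk]⟩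
      mul_mem' := fun {a b} ha hb => ⟨N.mul_mem ha.1 hb.1, by rw [bmul (hNM ha.1), ha.2, hb.2, mul_one]⟩
      inv_mem' := fun {a} ha => ⟨N.inv_mem ha.1, by
        have := bmul (hNM ha.1) a⁻¹
        rw [mul_inv_cancel, ha.2, one_mul] at this
        rw [← this]; ext i j; fin_cases i <;> fin_cases j <;> simp [blk]⟩ }
  have hK : ∀ g ∈ K, g = 1 := by
    intro g hg
    have hsc : K ≤ scalars (Fin 3) F := by
      refine hA K (fun x hx => hNM hx.1) (fun h hh x hx => ⟨hn h hh x hx.1, ?_⟩) fun a ha b hb => ?_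
      · rw [bmul (M.mul_mem hh (hNM hx.1)), bmul hh, hx.2, mul_one, ← bmul hh, mul_inv_cancel]
        ext i j; fin_cases i <;> fin_cases j <;> simp [blk]
      · have hcomm : a * b = b * a := by
          refine Units.ext ?_
          have a0 := (hNC ha.1).2
          have b0 := (hNC hb.1).2
          obtain ⟨a1, a2⟩ := hz a (hNM ha.1)
          obtain ⟨b1, b2⟩ := hz b (hNM hb.1)
          have A11 := congrFun (congrFun ha.2 0) 0
          have A12 := congrFun (congrFun ha.2 0) 1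
          have A21 := congrFun (congrFun ha.2 1) 0
          have A22 := congrFun (congrFun ha.2 1) 1
          have B11 := congrFun (congrFun hb.2 0) 0
          have B12 := congrFun (congrFun hb.2 0) 1
          have B21 := congrFun (congrFun hb.2 1) 0
          have B22 := congrFun (congrFun hb.2 1) 1
          simp [blk] at A11 A12 A21 A22 B11 B12 B21 B22
          rw [Units.val_mul, Units.val_mul]
          ext i j
          fin_cases i <;> fin_cases j <;>
            simp [Matrix.mul_apply, Fin.sum_univ_succ, a0, b0, a1, a2, b1, b2, A11, A12, A21, A22, B11, B12, B21, B22,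
              add_comm]
        rw [commutatorElement_eq_one_iff_mul_comm.2 hcomm]
        exact (scalars (Fin 3) F).one_mem
    obtain ⟨c, hc⟩ := (mem_scalars_iff g).1 (hsc hg)
    have h0 := (hNC hg.1).2
    rw [hc] at h0
    refine Units.ext ?_
    simp at h0
    rw [hc, h0, Units.val_one, one_smul, Units.val_one]
  -- an involution
  have hev : 2 ∣ Nat.card N := by
    by_contra hodd
    haveI := CfsgLib.OddLocal.FTFinal.odd_order_solvable (G := N) (Nat.odd_iff.2 (by omega))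
    haveI : Nontrivial N := (Subgroup.nontrivial_iff_ne_bot N).2 fun h => hNs (h ▸ bot_le)
    refine (Group.IsSolvable.commutator_lt_top_of_nontrivial N).ne ?_
    apply Subgroup.map_injective N.subtype_injective
    rw [← MonoidHom.range_eq_map, Subgroup.range_subtype, commutator_def, Subgroup.map_commutator,
      ← MonoidHom.range_eq_map, Subgroup.range_subtype, hp]
  haveI : Fact (Nat.Prime 2) := ⟨Nat.prime_two⟩
  obtain ⟨⟨n, hnN⟩, ho⟩ := exists_prime_orderOf_dvd_card' (G := N) 2 hev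
  have ho' : orderOf n = 2 := by rwa [Subgroup.orderOf_mk] at ho
  have hn2 : n * n = 1 := by rw [← pow_two, ← ho', pow_orderOf_eq_one]
  have hn00 := (hNC hnN).2
  have hd : (blk (n : M3)).det = 1 := by
    have := det_corner (hz n (hNM hnN)).1 (hz n (hNM hnN)).2
    rw [hn00, one_mul] at this
    rw [← this]
    exact congrArg Units.val (show Matrix.GeneralLinearGroup.det n = 1 from hM (hNM hnN))
  have hblk1 : blk ((1 : GL (Fin 3) F) : M3) = 1 := by ext i j; fin_cases i <;> fin_cases j <;> simp [blk]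
  rcases blk_involution h2 (by rw [← bmul (hNM hnN), hn2, hblk1]) hd with hb | hb
  · have := hK n ⟨hnN, hb⟩
    rw [this, orderOf_one] at ho'
    norm_num at ho'
  have hcen : ∀ g ∈ N, n * g = g * n := by
    intro g hg
    have hni : n⁻¹ = n := inv_eq_of_mul_eq_one_right hn2
    have hb' : blk ((n * g * n⁻¹ * g⁻¹ : GL (Fin 3) F) : M3) = 1 := by
      rw [bmul (M.mul_mem (M.mul_mem (hNM hnN) (hNM hg)) (M.inv_mem (hNM hnN))),
        bmul (M.mul_mem (hNM hnN) (hNM hg)), bmul (hNM hnN), hni, hb, neg_mul, one_mul, mul_neg, mul_one, neg_neg,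
        ← bmul (hNM hg), mul_inv_cancel, hblk1]
    have := hK _ ⟨N.mul_mem (N.mul_mem (N.mul_mem hnN hg) (N.inv_mem hnN)) (N.inv_mem hg), hb'⟩
    rwa [mul_inv_eq_one, mul_inv_eq_iff_eq_mul] at this
  let Z : Subgroup (GL (Fin 3) F) := N ⊓ Subgroup.centralizer (N : Set (GL (Fin 3) F))
  have hZ : Z ≤ scalars (Fin 3) F := by
    refine hA Z (inf_le_left.trans hNM) (fun h hh x hx => ⟨hn h hh x hx.1, Subgroup.mem_centralizer_iff.2 fun y hy => ?_⟩)
      fun a ha b hb => ?_
    · show y * (h * x * h⁻¹) = h * x * h⁻¹ * y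
      have hy' := hn h⁻¹ (M.inv_mem hh) y hy
      have e := Subgroup.mem_centralizer_iff.1 hx.2 _ hy'
      calc y * (h * x * h⁻¹) = h * ((h⁻¹ * y * h⁻¹⁻¹) * x) * h⁻¹ := by group
        _ = h * (x * (h⁻¹ * y * h⁻¹⁻¹)) * h⁻¹ := by rw [e]
        _ = h * x * h⁻¹ * y := by group
    · rw [commutatorElement_eq_one_iff_mul_comm.2 (Subgroup.mem_centralizer_iff.1 hb.2 a ha.1)]
      exact (scalars (Fin 3) F).one_mem
  obtain ⟨c, hc⟩ := (mem_scalars_iff n).1 (hZ ⟨hnN, Subgroup.mem_centralizer_iff.2 fun g hg => (hcen g hg).symm⟩)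
  have h11 := congrFun (congrFun hb 0) 0
  rw [hc] at hn00
  simp at hn00
  subst hn00
  simp [blk, hc] at h11
  exact h2 (by linear_combination h11)

theorem NoAbelianNormal.map_equiv {M : Subgroup (GL (Fin 3) F)} (h : NoAbelianNormal M)
    (e : GL (Fin 3) F ≃* GL (Fin 3) F) (he : ∀ x, e x ∈ scalars (Fin 3) F ↔ x ∈ scalars (Fin 3) F) :
    NoAbelianNormal (M.map e.toMonoidHom) := by
  intro A hA hn hc
  have hle : A.comap e.toMonoidHom ≤ scalars (Fin 3) F := by
    refine h _ (fun x hx => ?_) (fun g hg x hx => ?_) fun a ha b hb => ?_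
    · obtain ⟨y, hy, hyx⟩ := hA hx
      rwa [← e.injective hyx]
    · show e (g * x * g⁻¹) ∈ A
      rw [map_mul, map_mul, map_inv]
      exact hn (e g) ⟨g, hg, rfl⟩ _ hx
    · rw [← he, map_commutatorElement]
      exact hc _ ha _ hb
  intro x hx
  obtain ⟨y, rfl⟩ := e.surjective x
  exact (he y).2 (hle hx)

/-- No perfect non-scalar normal subgroup when a line is fixed. -/
theorem false_of_line [Finite F] (h2 : (2 : F) ≠ 0) {M N : Subgroup (GL (Fin 3) F)}
    (hM : M ≤ specialLinear (Fin 3) F) (hA : NoAbelianNormal M) (hNM : N ≤ M)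
    (hn : ∀ h ∈ M, ∀ x ∈ N, h * x * h⁻¹ ∈ N) (hp : ⁅N, N⁆ = N) (hNs : ¬ N ≤ scalars (Fin 3) F)
    {v : Fin 3 → F} (hv : v ≠ 0) (hfix : ∀ g ∈ M, ∃ c : F, (g : M3) *ᵥ v = c • v) : False := by
  classical
  obtain ⟨X, hX0, hXv⟩ : ∃ X : M3, X.det ≠ 0 ∧ X *ᵥ Pi.single 0 1 = v := by
    obtain ⟨i, hi⟩ := Function.ne_iff.1 hv
    fin_cases i
    · exact ⟨!![v 0, 0, 0; v 1, 1, 0; v 2, 0, 1], by simpa [Matrix.det_fin_three] using hi,
        by funext j; fin_cases j <;> simp⟩
    · exact ⟨!![v 0, 1, 0; v 1, 0, 0; v 2, 0, 1], by simpa [Matrix.det_fin_three] using hi,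
        by funext j; fin_cases j <;> simp⟩
    · exact ⟨!![v 0, 1, 0; v 1, 0, 1; v 2, 0, 0], by simpa [Matrix.det_fin_three] using hi,
        by funext j; fin_cases j <;> simp⟩
  let B := Matrix.GeneralLinearGroup.mkOfDetNeZero X hX0
  let e : GL (Fin 3) F ≃* GL (Fin 3) F := MulAut.conj B⁻¹
  have hBv : ((B⁻¹ : GL (Fin 3) F) : M3) *ᵥ v = Pi.single 0 1 := by
    rw [← hXv]; exact mulVec_cancel_left B _
  refine false_of_corner h2 (M := M.map e.toMonoidHom) (N := N.map e.toMonoidHom) ?_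
    (hA.map_equiv e fun x => conj_mem_scalars) (Subgroup.map_mono hNM) ?_
    (by rw [← Subgroup.map_commutator, hp]) (fun h => hNs fun x hx => conj_mem_scalars.1 (h ⟨x, hx, rfl⟩)) ?_
  · rintro _ ⟨x, hx, rfl⟩
    show Matrix.GeneralLinearGroup.det (B⁻¹ * x * B⁻¹⁻¹) = 1
    rw [det_conj_eq]; exact hM hx
  · rintro _ ⟨g, hg, rfl⟩ _ ⟨x, hx, rfl⟩
    exact ⟨_, hn g hg x hx, by simp⟩
  · rintro _ ⟨g, hg, rfl⟩
    obtain ⟨c, hc⟩ := hfix g hg
    have hcol : ((e g : GL (Fin 3) F) : M3) *ᵥ Pi.single 0 1 = c • Pi.single 0 1 := by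
      show ((B⁻¹ * g * B⁻¹⁻¹ : GL (Fin 3) F) : M3) *ᵥ _ = _
      rw [inv_inv, Units.val_mul, Units.val_mul, ← Matrix.mulVec_mulVec, ← Matrix.mulVec_mulVec,
        show (B : M3) *ᵥ Pi.single 0 1 = v from hXv, hc, Matrix.mulVec_smul, hBv]
    exact ⟨by simpa using congrFun hcol 1, by simpa using congrFun hcol 2⟩

/-- Transpose inverse. -/
def tinv : GL (Fin 3) F ≃* GL (Fin 3) F where
  toFun g := ⟨((g⁻¹ : GL (Fin 3) F) : M3)ᵀ, (g : M3)ᵀ,
    by rw [← Matrix.transpose_mul, Units.mul_inv, Matrix.transpose_one],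
    by rw [← Matrix.transpose_mul, Units.inv_mul, Matrix.transpose_one]⟩
  invFun g := ⟨((g⁻¹ : GL (Fin 3) F) : M3)ᵀ, (g : M3)ᵀ,
    by rw [← Matrix.transpose_mul, Units.mul_inv, Matrix.transpose_one],
    by rw [← Matrix.transpose_mul, Units.inv_mul, Matrix.transpose_one]⟩
  left_inv g := Units.ext (by simp)
  right_inv g := Units.ext (by simp)
  map_mul' a b := Units.ext (by simp [_root_.mul_inv_rev, Matrix.transpose_mul])

theorem tinv_scalars (x : GL (Fin 3) F) : tinv x ∈ scalars (Fin 3) F ↔ x ∈ scalars (Fin 3) F := by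
  have key : ∀ x : GL (Fin 3) F, x ∈ scalars (Fin 3) F → tinv x ∈ scalars (Fin 3) F := by
    intro x hx
    obtain ⟨c, hc⟩ := (mem_scalars_iff _).1 ((scalars (Fin 3) F).inv_mem hx)
    exact (mem_scalars_iff _).2 ⟨c, by
      show ((x⁻¹ : GL (Fin 3) F) : M3)ᵀ = _
      rw [hc, Matrix.transpose_smul, Matrix.transpose_one]⟩
  refine ⟨fun h => ?_, key x⟩
  have := key _ h
  rwa [show tinv (tinv x) = x from Units.ext (Matrix.transpose_transpose _)] at this

theorem isCore_aux {ι : Type} [Fintype ι] [DecidableEq ι] {N : Subgroup (GL ι F)} (hperf : ⁅N, N⁆ = N) (hcomm : ¬ ⁅N, N⁆ ≤ scalars ι F)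
    (hsimple : ∀ L : Subgroup (GL ι F), L ≤ N → (∀ x ∈ N, ∀ y ∈ L, x * y * x⁻¹ ∈ L) →
      ¬ L ≤ scalars ι F → L = N) :
    IsSimpleGroup (N ⧸ (scalars ι F).subgroupOf N) ∧ ¬ IsMulCommutative (N ⧸ (scalars ι F).subgroupOf N) := by
  have hnetop : (scalars ι F).subgroupOf N ≠ ⊤ := fun h =>
    hcomm (by rw [hperf]; exact Subgroup.subgroupOf_eq_top.1 h)
  refine ⟨?_, ?_⟩
  · haveI : Nontrivial (N ⧸ (scalars ι F).subgroupOf N) := QuotientGroup.nontrivial_iff.2 hnetop
    refine ⟨fun L hL => ?_⟩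
    set π' := QuotientGroup.mk' ((scalars ι F).subgroupOf N)
    have hLc : (L.comap π').Normal := hL.comap π'
    let K := (L.comap π').map N.subtype
    have hKn : ∀ x ∈ N, ∀ y ∈ K, x * y * x⁻¹ ∈ K := by
      rintro x hx _ ⟨y, hy, rfl⟩
      let x' : N := ⟨x, hx⟩
      exact ⟨x' * y * x'⁻¹, hLc.conj_mem y hy x', rfl⟩
    by_cases hK : K ≤ scalars ι F
    · left
      rw [eq_bot_iff]
      intro x hx
      obtain ⟨n, rfl⟩ := QuotientGroup.mk'_surjective _ x
      exact Subgroup.mem_bot.2 ((QuotientGroup.eq_one_iff _).2 (hK ⟨n, hx, rfl⟩))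
    · right
      rw [eq_top_iff]
      intro x _
      obtain ⟨n, rfl⟩ := QuotientGroup.mk'_surjective _ x
      obtain ⟨n', hn', e⟩ := (hsimple K (Subgroup.map_subtype_le _) hKn hK).ge n.2
      rw [show n = n' from Subtype.ext e.symm]
      exact hn'
  · intro hc
    refine hcomm ?_
    rw [Subgroup.commutator_le]
    intro a ha b hb
    have e := hc.is_comm.comm (QuotientGroup.mk' _ (⟨a, ha⟩ : N)) (QuotientGroup.mk' _ (⟨b, hb⟩ : N))
    rw [← commutatorElement_eq_one_iff_mul_comm, ← map_commutatorElement] at e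
    exact (QuotientGroup.eq_one_iff (N := (scalars ι F).subgroupOf N) ⁅(⟨a, ha⟩ : N), ⟨b, hb⟩⁆).1 e

set_option maxHeartbeats 800000 in
/-- The group and a core. -/
theorem exists_sit [Finite F] (h2 : (2 : F) ≠ 0)
    (H : Subgroup (Matrix.ProjectiveSpecialLinearGroup (Fin 3) F)) (hH : H ≠ ⊥)
    (hN : ∀ N : Subgroup H, N.Normal → IsMulCommutative N → (∃ r : ℕ, r.Prime ∧ ∀ x ∈ N, x ^ r = 1) → N = ⊥) :
    ∃ M N : Subgroup (GL (Fin 3) F), Sit M N ∧ Nonempty (Bar M ≃* H) := by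
  classical
  haveI : Finite (GL (Fin 3) F) := Finite.of_injective (fun g : GL (Fin 3) F => (g : M3)) Units.val_injective
  haveI : Finite (Subgroup (GL (Fin 3) F)) :=
    Finite.of_injective (fun K => (K : Set (GL (Fin 3) F))) SetLike.coe_injective
  let π := QuotientGroup.mk' (Subgroup.center (Matrix.SpecialLinearGroup (Fin 3) F))
  let S := H.comap π
  let M : Subgroup (GL (Fin 3) F) := S.map (Matrix.SpecialLinearGroup.toGL)
  have hinj : Function.Injective (Matrix.SpecialLinearGroup.toGL (n := Fin 3) (R := F)) := fun a b h =>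
    Subtype.ext (congrArg Units.val h)
  have hMsl : M ≤ specialLinear (Fin 3) F := by
    rintro _ ⟨x, -, rfl⟩
    exact Units.ext x.2
  let e : S ≃* M := S.equivMapOfInjective _ hinj
  let φ : M →* H := (π.subgroupComap H).comp e.symm.toMonoidHom
  have hφs : Function.Surjective φ :=
    (π.subgroupComap_surjective_of_surjective H (QuotientGroup.mk'_surjective _)).comp e.symm.surjective
  have hker : φ.ker = (scalars (Fin 3) F).subgroupOf M := by
    ext x
    obtain ⟨y, rfl⟩ := e.surjective x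
    rw [MonoidHom.mem_ker, Subgroup.mem_subgroupOf]
    show π.subgroupComap H (e.symm (e y)) = 1 ↔ _
    rw [e.symm_apply_apply, Subtype.ext_iff]
    show π (y : Matrix.SpecialLinearGroup (Fin 3) F) = 1 ↔ _
    rw [QuotientGroup.mk'_apply, QuotientGroup.eq_one_iff, Matrix.SpecialLinearGroup.mem_center_iff]
    constructor
    · rintro ⟨r, hr, hy⟩
      have hr0 : r ≠ 0 := by
        rintro rfl
        simp at hr
      exact (mem_scalars_iff _).2 ⟨Units.mk0 r hr0, by
        show ((y : Matrix.SpecialLinearGroup (Fin 3) F) : M3) = _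
        rw [← hy, Units.val_mk0, Matrix.smul_one_eq_diagonal]; rfl⟩
    · intro h
      obtain ⟨c, hc⟩ := (mem_scalars_iff _).1 h
      have hc' : ((y : Matrix.SpecialLinearGroup (Fin 3) F) : M3) = (c : F) • 1 := hc
      refine ⟨c, ?_, ?_⟩
      · have := (y : Matrix.SpecialLinearGroup (Fin 3) F).2
        rw [show ((y : Matrix.SpecialLinearGroup (Fin 3) F) : M3) = (c : F) • 1 from hc', Matrix.det_smul,
          Matrix.det_one, mul_one] at this
        exact this
      · rw [hc', Matrix.smul_one_eq_diagonal]; rfl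
  have hNA : NoAbelianNormal M := by
    intro A hAM hn hc
    have hAn : (A.subgroupOf M).Normal := ⟨fun x hx g => hn g g.2 x hx⟩
    have h := abelian_normal_eq_bot hN ((A.subgroupOf M).map φ) (hAn.map φ hφs) (by
      rintro _ ⟨a, ha, rfl⟩ _ ⟨b, hb, rfl⟩
      rw [← commutatorElement_eq_one_iff_mul_comm, ← map_commutatorElement, ← MonoidHom.mem_ker, hker,
        Subgroup.mem_subgroupOf]
      exact hc _ ha _ hb)
    intro a ha
    have : φ ⟨a, hAM ha⟩ = 1 := by
      rw [← Subgroup.mem_bot, ← h]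
      exact ⟨_, ha, rfl⟩
    rwa [← MonoidHom.mem_ker, hker, Subgroup.mem_subgroupOf] at this
  have hMns : ¬ M ≤ scalars (Fin 3) F := by
    intro h
    refine hH (eq_bot_iff.2 fun x hx => ?_)
    obtain ⟨y, hy⟩ := hφs ⟨x, hx⟩
    have : φ y = 1 := by rw [← MonoidHom.mem_ker, hker, Subgroup.mem_subgroupOf]; exact h y.2
    rw [hy] at this
    exact congrArg Subtype.val this
  let 𝒩 := {L : Subgroup (GL (Fin 3) F) | L ≤ M ∧ (∀ h ∈ M, ∀ x ∈ L, h * x * h⁻¹ ∈ L) ∧ ¬ L ≤ scalars (Fin 3) F}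
  obtain ⟨N, ⟨hNM, hn, hNs⟩, hmin'⟩ := wellFounded_lt.has_min 𝒩
    ⟨M, le_rfl, fun h hh x hx => M.mul_mem (M.mul_mem hh hx) (M.inv_mem hh), hMns⟩
  have hmin : ∀ L : Subgroup (GL (Fin 3) F), L ≤ N → (∀ h ∈ M, ∀ x ∈ L, h * x * h⁻¹ ∈ L) →
      ¬ L ≤ scalars (Fin 3) F → L = N := fun L hL hLn hLs => by
    by_contra hne
    exact hmin' L ⟨hL.trans hNM, hLn, hLs⟩ (lt_of_le_of_ne hL hne)
  have hcomm : ¬ ⁅N, N⁆ ≤ scalars (Fin 3) F := fun h =>
    hNs (hNA N hNM hn fun a ha b hb => h (Subgroup.commutator_mem_commutator ha hb))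
  have hperf : ⁅N, N⁆ = N := by
    refine hmin _ ?_ (Asch.conj_mem_commutator hn) hcomm
    rw [Subgroup.commutator_le]
    exact fun x hx y hy => N.mul_mem (N.mul_mem (N.mul_mem hx hy) (N.inv_mem hx)) (N.inv_mem hy)
  have hirr : ActsIrreducibly (matrixSet M) := by
    rw [Asch.actsIrreducibly_iff]
    intro W hW
    by_contra hne
    push Not at hne
    rw [Asch.stable_matrixSet_iff] at hW
    have hd : Module.finrank F W = 1 ∨ Module.finrank F W = 2 := by
      have h3 := Submodule.finrank_lt hne.2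
      rw [Module.finrank_fin_fun] at h3
      have h0 : Module.finrank F W ≠ 0 := fun h => hne.1 (Submodule.finrank_eq_zero.1 h)
      omega
    rcases hd with hd | hd
    · obtain ⟨⟨v, hvW⟩, hv0, hgen⟩ := finrank_eq_one_iff'.1 hd
      refine false_of_line h2 hMsl hNA hNM hn hperf hNs (v := v) (fun h => hv0 (Subtype.ext h)) fun g hg => ?_
      obtain ⟨c, hc⟩ := hgen ⟨_, hW g hg v hvW⟩
      exact ⟨c, (congrArg Subtype.val hc).symm⟩
    · -- the annihilator is a line fixed by the transposed inverses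
      let Ψ : (Fin 3 → F) →ₗ[F] Module.Dual F (Fin 3 → F) :=
        { toFun := fun φ => (dotProductBilin F F φ)
          map_add' := fun a b => map_add _ a b
          map_smul' := fun c a => map_smul _ c a }
      have hΨ : ∀ φ x, Ψ φ x = φ ⬝ᵥ x := fun _ _ => rfl
      let R : (Fin 3 → F) →ₗ[F] Module.Dual F W :=
        { toFun := fun φ => (Ψ φ).comp W.subtype
          map_add' := fun a b => by rw [map_add, LinearMap.add_comp]
          map_smul' := fun c a => by rw [map_smul, LinearMap.smul_comp]; rfl }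
      obtain ⟨φ, hφR, hφ0⟩ : ∃ φ ∈ LinearMap.ker R, φ ≠ 0 := by
        refine Submodule.exists_mem_ne_zero_of_ne_bot fun hb => ?_
        have := LinearMap.finrank_le_finrank_of_injective (LinearMap.ker_eq_bot.1 hb)
        rw [Module.finrank_fin_fun, Subspace.dual_finrank_eq, hd] at this
        omega
      have hker1 : LinearMap.ker (Ψ φ) = W := by
        have hle : W ≤ LinearMap.ker (Ψ φ) := fun w hw =>
          LinearMap.congr_fun (LinearMap.mem_ker.1 hφR) ⟨w, hw⟩
        refine (Submodule.eq_of_le_of_finrank_le hle ?_).symm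
        have hr := LinearMap.finrank_range_add_finrank_ker (Ψ φ)
        rw [Module.finrank_fin_fun] at hr
        have h1 : Module.finrank F (LinearMap.range (Ψ φ)) ≠ 0 := fun h => hφ0 (by
          rw [Submodule.finrank_eq_zero, LinearMap.range_eq_bot] at h
          funext i
          have := LinearMap.congr_fun h (Pi.single i 1)
          simpa [hΨ] using this)
        omega
      refine false_of_line h2 (M := M.map tinv.toMonoidHom) (N := N.map tinv.toMonoidHom) ?_
        (hNA.map_equiv tinv tinv_scalars) (Subgroup.map_mono hNM) ?_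
        (by rw [← Subgroup.map_commutator, hperf]) (fun h => hNs fun x hx => (tinv_scalars x).1 (h ⟨x, hx, rfl⟩))
        hφ0 ?_
      · rintro _ ⟨x, hx, rfl⟩
        show Matrix.GeneralLinearGroup.det (tinv x) = 1
        refine Units.ext ?_
        show (((x⁻¹ : GL (Fin 3) F) : M3)ᵀ).det = 1
        rw [Matrix.det_transpose]
        exact congrArg Units.val (show Matrix.GeneralLinearGroup.det x⁻¹ = 1 from hMsl (M.inv_mem hx))
      · rintro _ ⟨g, hg, rfl⟩ _ ⟨x, hx, rfl⟩
        exact ⟨_, hn g hg x hx, by simp⟩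
      · rintro _ ⟨g, hg, rfl⟩
        obtain ⟨u, hu⟩ : ∃ u, u ∉ W := by
          by_contra! h
          exact hne.2 (eq_top_iff.2 fun x _ => h x)
        set ψ := φ ᵥ* ((g⁻¹ : GL (Fin 3) F) : M3) with hψ
        have hu0 : φ ⬝ᵥ u ≠ 0 := fun h => hu (hker1 ▸ (LinearMap.mem_ker.2 h))
        refine ⟨(ψ ⬝ᵥ u) / (φ ⬝ᵥ u), ?_⟩
        show ((g⁻¹ : GL (Fin 3) F) : M3)ᵀ *ᵥ φ = _
        rw [Matrix.mulVec_transpose, ← hψ]
        funext i
        have hmem : (Pi.single i (1 : F) - (φ ⬝ᵥ Pi.single i (1 : F) / φ ⬝ᵥ u) • u : Fin 3 → F) ∈ W := by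
          rw [← hker1, LinearMap.mem_ker, hΨ, dotProduct_sub, dotProduct_smul, smul_eq_mul, div_mul_cancel₀ _ hu0,
            sub_self]
        have h0 : ψ ⬝ᵥ (Pi.single i (1 : F) - (φ ⬝ᵥ Pi.single i (1 : F) / φ ⬝ᵥ u) • u) = 0 := by
          rw [hψ, ← Matrix.dotProduct_mulVec, ← hΨ, ← LinearMap.mem_ker, hker1]
          exact hW g⁻¹ (M.inv_mem hg) _ hmem
        rw [dotProduct_sub, dotProduct_smul, smul_eq_mul, dotProduct_single, mul_one, dotProduct_single, mul_one,
          sub_eq_zero] at h0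
        rw [h0, Pi.smul_apply, smul_eq_mul]
        ring
  have hr : (Fintype.card (Fin 3)).Prime := by rw [Fintype.card_fin]; exact Nat.prime_three
  have habs : ActsAbsolutelyIrreducibly (matrixSet N) := by
    refine Asch.absIrred_of_normal_nonabelian hr hirr hn ?_
    by_contra! h
    exact hcomm (Subgroup.commutator_le.2 fun a ha b hb => by
      rw [commutatorElement_eq_one_iff_mul_comm.2 (h a ha b hb)]
      exact (scalars (Fin 3) F).one_mem)
  have hsimple := Asch.simple_mod_scalars hr hn hmin habs hperf hNM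
  refine ⟨M, N, ⟨hMsl, hNM, hn, ⟨hNM.trans hMsl, hperf, habs, ?_, ?_⟩⟩,
    ⟨(QuotientGroup.quotientMulEquivOfEq hker.symm).trans (QuotientGroup.quotientKerEquivOfSurjective φ hφs)⟩⟩
  all_goals first
    | exact (isCore_aux hperf hcomm hsimple).1
    | exact (isCore_aux hperf hcomm hsimple).2

end CfsgLib.Geo.SL3.Odd
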