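/-
Socles L3(2) and A7: nothing outside the socle, and the condition on the field.
-/
import Cfsg.Agent.Lib.Geo.SL3.Odd.Lift
import Cfsg.Agent.Lib.Geo.SL3.Maximal.Socle
import Cfsg.Agent.Lib.ClassSizes.AlternatingAut

set_option autoImplicit false

namespace CfsgLib.Geo.SL3.Odd

open Cfsg.Geo Subgroup

section Abstract

variable {M : Type*} [Group M] [Finite M] (A : Subgroup M) [A.Normal]

/-- A Frattini argument at seven. -/
theorem eq_top_of_seven {x : A} (hx : orderOf x = 7) (h49 : ¬ 49 ∣ Nat.card A)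
    (hsq : ∃ a : A, a * x * a⁻¹ = x ^ 2) (hinv : ∀ m : M, m * (x : M) * m⁻¹ ≠ (x : M) ^ 6)
    (hcen : ∀ m : M, Commute m (x : M) → m ∈ A) : A = ⊤ := by
  classical
  haveI : Fact (Nat.Prime 7) := ⟨by norm_num⟩
  have h7 : 7 ∣ Nat.card A := hx ▸ orderOf_dvd_natCard x
  have hfac : (Nat.card A).factorization 7 = 1 := by
    have h0 : Nat.card A ≠ 0 := Nat.card_pos.ne'
    refine le_antisymm ?_ ((Nat.Prime.pow_dvd_iff_le_factorization (by norm_num) h0).1 (by rwa [pow_one]))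
    by_contra hlt
    exact h49 ((show (49 : ℕ) = 7 ^ 2 by norm_num) ▸
      (Nat.Prime.pow_dvd_iff_le_factorization (by norm_num) h0).2 (by omega))
  let P : Sylow 7 A := Sylow.ofCard (zpowers x) (by rw [Nat.card_zpowers, hx, hfac, pow_one])
  have hsup := Sylow.normalizer_sup_eq_top P
  rw [show (P : Subgroup A).map A.subtype = zpowers (x : M) from MonoidHom.map_zpowers _ _] at hsup
  refine eq_top_iff.2 fun m _ => ?_
  obtain ⟨n, hn, a, ha, rfl⟩ := Subgroup.mem_sup_of_normal_right.1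
    (show m ∈ normalizer (zpowers (x : M) : Set M) ⊔ A by rw [hsup]; exact Subgroup.mem_top m)
  refine A.mul_mem ?_ ha
  have hxo : orderOf (x : M) = 7 := by rw [Subgroup.orderOf_coe, hx]
  have h7x : (x : M) ^ 7 = 1 := hxo ▸ pow_orderOf_eq_one _
  have hnx : n * (x : M) * n⁻¹ ∈ zpowers (x : M) := (Subgroup.mem_normalizer_iff.1 hn _).1 (mem_zpowers _)
  rw [← (IsOfFinOrder.mem_powers_iff_mem_zpowers (isOfFinOrder_of_finite _)),
    (isOfFinOrder_of_finite (x : M)).mem_powers_iff_mem_range_orderOf, hxo, Finset.mem_image] at hnx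
  obtain ⟨k, hk, e⟩ := hnx
  rw [Finset.mem_range] at hk
  obtain ⟨b, hb⟩ := hsq
  have hb' : (b : M) * (x : M) * (b : M)⁻¹ = (x : M) ^ 2 := by simpa using congrArg Subtype.val hb
  have hmod : ∀ i : ℕ, (x : M) ^ i = (x : M) ^ (i % 7) := fun i => by rw [← hxo, pow_mod_orderOf]
  have hpow : ∀ (g : M) (i : ℕ), g * (x : M) * g⁻¹ = (x : M) ^ i → ∀ j, g * (x : M) ^ j * g⁻¹ = (x : M) ^ (i * j) :=
    fun g i h j => by rw [← conj_pow, h, ← pow_mul]
  have hcomp : ∀ (g g' : M) (i i' : ℕ), g * (x : M) * g⁻¹ = (x : M) ^ i → g' * (x : M) * g'⁻¹ = (x : M) ^ i' →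
      g * g' * (x : M) * (g * g')⁻¹ = (x : M) ^ (i * i') := fun g g' i i' h h' => by
    rw [show g * g' * (x : M) * (g * g')⁻¹ = g * (g' * (x : M) * g'⁻¹) * g⁻¹ by group, h', hpow g i h]
  have hcase : ∀ g : M, g * (x : M) * g⁻¹ = (x : M) ^ 1 → g ∈ A := fun g h =>
    hcen g (mul_inv_eq_iff_eq_mul.1 (h.trans (pow_one _)))
  have hcube := hcomp _ _ _ _ (hcomp _ _ _ _ e.symm e.symm) e.symm
  interval_cases k
  · exfalso
    rw [pow_zero] at e
    have h1 : (x : M) = 1 := conj_eq_one_iff.1 e.symm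
    rw [h1, orderOf_one] at hxo
    norm_num at hxo
  · exact hcase n e.symm
  · refine (A.mul_mem_cancel_left (A.mul_mem b.2 b.2)).1 (hcase _ ?_)
    rw [hcomp _ _ _ _ (hcomp _ _ _ _ hb' hb') e.symm, hmod]
  · exact absurd (hcube.trans (hmod _)) (hinv _)
  · refine (A.mul_mem_cancel_left b.2).1 (hcase _ ?_)
    rw [hcomp _ _ _ _ hb' e.symm, hmod]
  · exact absurd (hcube.trans (hmod _)) (hinv _)
  · exact absurd e.symm (hinv _)

/-- An embedding in which centralisers at seven are cyclic. -/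
theorem mem_of_cent {β : Type*} [Group β] [Finite β] {f : M →* β} (hf : Function.Injective f) {x : A}
    (hx : orderOf x = 7) (hc : Nat.card (centralizer {f (x : M)}) = 7) {m : M} (hm : Commute m (x : M)) : m ∈ A := by
  have heq : zpowers (f (x : M)) = centralizer {f (x : M)} := by
    refine Subgroup.eq_of_le_of_card_ge (zpowers_le.2 (mem_centralizer_singleton_iff.2 rfl)) ?_
    rw [hc, Nat.card_zpowers, orderOf_injective f hf, Subgroup.orderOf_coe, hx]
  have h1 : f m ∈ zpowers (f (x : M)) := heq ▸ mem_centralizer_singleton_iff.2 (hm.map f).eq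
  obtain ⟨j, hj⟩ := h1
  exact hf ((map_zpow f _ j).trans hj) ▸ A.zpow_mem x.2 j

theorem card_centralizer_seven_seven {σ : Equiv.Perm (Fin 7)} (h : orderOf σ = 7) :
    Nat.card (centralizer {σ}) = 7 := by
  obtain ⟨k, hk⟩ := Equiv.Perm.cycleType_prime_order (σ := σ) (by rw [h]; norm_num)
  have hs : σ.cycleType.sum ≤ 7 := by
    rw [Equiv.Perm.sum_cycleType]
    exact (Finset.card_le_univ _).trans_eq (Fintype.card_fin 7)
  rw [hk, Multiset.sum_replicate, h, smul_eq_mul] at hs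
  obtain rfl : k = 0 := by omega
  rw [Equiv.Perm.nat_card_centralizer, hk, h, Fintype.card_fin]
  decide

/-- Socle of order 168. -/
theorem eq_top_168 [IsSimpleGroup A] (hA : Nat.card A = 168) (hC : centralizer (A : Set M) = ⊥)
    (hsq : ∀ x : A, orderOf x = 7 → ∃ a : A, a * x * a⁻¹ = x ^ 2)
    (hinv : ∀ x : A, orderOf x = 7 → ∀ m : M, m * (x : M) * m⁻¹ ≠ (x : M) ^ 6) : A = ⊤ := by
  classical
  haveI : Fact (Nat.Prime 7) := ⟨by norm_num⟩
  obtain ⟨x, hx⟩ := exists_prime_orderOf_dvd_card' (G := A) 7 (by rw [hA]; norm_num)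
  have h8 := CfsgLib.Perm.Simple168.card_sylow_seven (G := A) hA
  haveI := Fintype.ofFinite (Sylow 7 A)
  let e : Sylow 7 A ≃ Fin 8 := Fintype.equivFinOfCardEq (by rw [← Nat.card_eq_fintype_card, h8])
  let f : M →* Equiv.Perm (Fin 8) := e.permCongrHom.toMonoidHom.comp (Maximal.sylHom A 7)
  have hf : Function.Injective f :=
    e.permCongrHom.injective.comp (Maximal.sylHom_injective A (by rw [h8]; norm_num) hC)
  exact eq_top_of_seven A hx (by rw [hA]; norm_num) (hsq x hx) (hinv x hx) fun m hm =>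
    mem_of_cent A hf hx (CfsgLib.Known.GLFourTwo.card_centralizer_perm_seven
      (by rw [orderOf_injective f hf, Subgroup.orderOf_coe, hx])) hm

/-- Socle alternating of degree seven. -/
theorem eq_top_alt_seven (eA : A ≃* alternatingGroup (Fin 7)) (hC : centralizer (A : Set M) = ⊥)
    (hsq : ∀ x : A, orderOf x = 7 → ∃ a : A, a * x * a⁻¹ = x ^ 2)
    (hinv : ∀ x : A, orderOf x = 7 → ∀ m : M, m * (x : M) * m⁻¹ ≠ (x : M) ^ 6) : A = ⊤ := by
  classical
  haveI : Fact (Nat.Prime 7) := ⟨by norm_num⟩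
  have hA : Nat.card A = 2520 := by
    rw [Nat.card_congr eA.toEquiv, nat_card_alternatingGroup, Nat.card_fin]; rfl
  obtain ⟨x, hx⟩ := exists_prime_orderOf_dvd_card' (G := A) 7 (by rw [hA]; norm_num)
  let ea := MulEquiv.ofBijective _ (CfsgLib.ClassSizes.AlternatingAut.conjNormal_bijective (α := Fin 7)
    (by simp) (by simp))
  let f : M →* Equiv.Perm (Fin 7) :=
    ((MulAut.congr eA).trans ea.symm).toMonoidHom.comp MulAut.conjNormal
  have hf : Function.Injective f := by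
    refine ((MulAut.congr eA).trans ea.symm).injective.comp ?_
    rw [← MonoidHom.ker_eq_bot_iff, eq_bot_iff, ← hC]
    intro z hz
    rw [Subgroup.mem_centralizer_iff]
    intro a ha
    have h1 := congrArg Subtype.val (MulEquiv.congr_fun (MonoidHom.mem_ker.1 hz) ⟨a, ha⟩)
    rw [MulAut.conjNormal_apply] at h1
    exact (mul_inv_eq_iff_eq_mul.1 h1).symm
  exact eq_top_of_seven A hx (by rw [hA]; norm_num) (hsq x hx) (hinv x hx) fun m hm =>
    mem_of_cent A hf hx (card_centralizer_seven_seven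
      (by rw [orderOf_injective f hf, Subgroup.orderOf_coe, hx])) hm

end Abstract

variable {F : Type*} [Field F] [Fintype F] {M N : Subgroup (GL (Fin 3) F)}

/-- Elements of order seven away from characteristic seven. -/
theorem seven_data (p α : ℕ) [Fact p.Prime] [CharP F p] (h7 : p ≠ 7) (hF : Fintype.card F = p ^ α) (hS : Sit M N)
    (hsq : ∀ x : hS.soc, orderOf x = 7 → ∃ a : hS.soc, a * x * a⁻¹ = x ^ 2) (hdvd : 7 ∣ Nat.card hS.soc) :
    (p ^ α) ^ 3 % 7 = 1 ∧ (p ^ α) % 7 ≠ 3 ∧ (p ^ α) % 7 ≠ 5 ∧ (p ^ α) % 7 ≠ 6 ∧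
      ∀ x : hS.soc, orderOf x = 7 → ∀ m : Bar M, m * (x : Bar M) * m⁻¹ ≠ (x : Bar M) ^ 6 := by
  classical
  haveI : Fact (Nat.Prime 7) := ⟨by norm_num⟩
  have hpp := (Fact.out : p.Prime)
  have h7F : ((7 : ℕ) : F) ≠ 0 := by
    rw [Ne, CharP.cast_eq_zero_iff F p]
    exact fun h => h7 ((Nat.prime_dvd_prime_iff_eq hpp (by norm_num)).1 h)
  have key : ∀ x : hS.soc, orderOf x = 7 → ∃ g : M, (g : Bar M) = x ∧ g ^ 7 = 1 ∧
      (∀ i : ℕ, (((g : GL (Fin 3) F) : Matrix (Fin 3) (Fin 3) F) ^ (2 * i % 7)).trace =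
        (((g : GL (Fin 3) F) : Matrix (Fin 3) (Fin 3) F) ^ i).trace) ∧
      (((g : GL (Fin 3) F) : Matrix (Fin 3) (Fin 3) F) ^ 6).trace ≠
        ((g : GL (Fin 3) F) : Matrix (Fin 3) (Fin 3) F).trace := by
    intro x hx
    have hx7 : (x : Bar M) ^ 7 = 1 := by
      rw [← Subgroup.coe_pow, ← hx, pow_orderOf_eq_one, Subgroup.coe_one]
    obtain ⟨g, -, hg, hgx⟩ := hS.exists_lift x.2 (by norm_num) hx7
    obtain ⟨a, ha⟩ := hsq x hx
    obtain ⟨k, hk⟩ := conj_lift hS.le_sl (by norm_num) hg (m := (a : Bar M)) (j := 2) (by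
      rw [hgx]; simpa using congrArg Subtype.val ha)
    have htr : ∀ i : ℕ, (((g : GL (Fin 3) F) : Matrix (Fin 3) (Fin 3) F) ^ (2 * i % 7)).trace =
        (((g : GL (Fin 3) F) : Matrix (Fin 3) (Fin 3) F) ^ i).trace := fun i => by
      refine (trace_of_conj (k := k) (i := i) (j := 2 * i % 7) ?_).symm
      rw [← conj_pow, hk, ← pow_mul, ← pow_mod_orderOf g (2 * i % 7),
        Nat.mod_mod_of_dvd _ (orderOf_dvd_of_pow_eq_one hg), pow_mod_orderOf]
    refine ⟨g, hgx, hg, htr, fun h6 => ?_⟩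
    have h1 : g = 1 := eq_one_of_two_conj hS.le_sl (n := 7) (by norm_num) h7F hg h6 (by simpa using htr 1)
    have : x = 1 := Subtype.ext (by rw [← hgx, h1]; rfl)
    rw [this, orderOf_one] at hx
    norm_num at hx
  obtain ⟨x₀, hx₀⟩ := exists_prime_orderOf_dvd_card' (G := hS.soc) 7 hdvd
  obtain ⟨g, -, hg, htr, hne⟩ := key x₀ hx₀
  set A := ((g : GL (Fin 3) F) : Matrix (Fin 3) (Fin 3) F) with hA
  have hA7 : A ^ 7 = 1 := by
    rw [hA, ← Units.val_pow_eq_pow_val, ← SubmonoidClass.coe_pow, hg]; rfl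
  have hq : (A ^ (p ^ α % 7)).trace = A.trace := by
    rw [← pow_eq_pow_mod (p ^ α) hA7, Residual.trace_pow_char_pow p A α, ← hF, FiniteField.pow_card]
  have h3 : (A ^ 3).trace = (A ^ 6).trace := (htr 3).symm
  have h5 : (A ^ 5).trace = (A ^ 6).trace := htr 6
  have hr : p ^ α % 7 ≠ 3 ∧ p ^ α % 7 ≠ 5 ∧ p ^ α % 7 ≠ 6 := by
    refine ⟨fun h => hne ?_, fun h => hne ?_, fun h => hne ?_⟩ <;> rw [h] at hq
    · rw [← h3, hq]
    · rw [← h5, hq]
    · exact hq
  have h0 : p ^ α % 7 ≠ 0 := fun h => h7 ((Nat.prime_dvd_prime_iff_eq (by norm_num) hpp).1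
    ((by norm_num : Nat.Prime 7).dvd_of_dvd_pow (Nat.dvd_of_mod_eq_zero h))).symm
  refine ⟨?_, hr.1, hr.2.1, hr.2.2, fun x hx m hm => ?_⟩
  · have hlt : p ^ α % 7 < 7 := Nat.mod_lt _ (by norm_num)
    rw [Nat.pow_mod]
    generalize hr7 : p ^ α % 7 = r at h0 hr hlt
    interval_cases r <;> first | omega | norm_num
  · obtain ⟨g, hgx, hg, -, hne⟩ := key x hx
    rw [← hgx] at hm
    obtain ⟨k, hk⟩ := conj_lift hS.le_sl (by norm_num) hg hm
    refine hne ?_
    have := trace_of_conj (k := k) (g := g) (i := 1) (j := 6) (by rwa [pow_one])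
    simpa using this.symm

end CfsgLib.Geo.SL3.Odd
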