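/-
Socle A6 with scalars: the index of the socle and the condition on the field.
-/
import Cfsg.Agent.Lib.Geo.SL3.Odd.Lift
import Cfsg.Agent.Lib.Geo.SL3.Maximal.SocleSix
import Cfsg.Agent.Lib.Geo.SL3.Maximal.Heisenberg
import Cfsg.Agent.Lib.Transfer.Abelian
import Cfsg.Agent.Lib.ClassSizes.AlternatingAut
import Cfsg.Agent.Lib.Geo.SL3.Residual.Types

set_option autoImplicit false

namespace CfsgLib.Geo.SL3.Odd

open Cfsg.Geo
open scoped Pointwise commutatorElement

/-- Two-elements of SL2(3). -/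
theorem sl_two_three_facts : ∀ g : Matrix.SpecialLinearGroup (Fin 2) (ZMod 3),
    (g ^ 8 = 1 → g ^ 4 = 1) ∧ (g ^ 2 = 1 → g = 1 ∨ g.1 = -1) := by
  decide +kernel

theorem factorization_three {n : ℕ} (h : n = 1080) : n.factorization 3 = 3 := by
  subst h
  refine le_antisymm ?_ ?_
  · by_contra hlt
    exact absurd ((show (81 : ℕ) = 3 ^ 4 by norm_num) ▸
      (Nat.Prime.pow_dvd_iff_le_factorization Nat.prime_three (by norm_num : (1080 : ℕ) ≠ 0)).2 (by omega) :
      (81 : ℕ) ∣ 1080) (by norm_num)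
  · exact (Nat.Prime.pow_dvd_iff_le_factorization Nat.prime_three (by norm_num)).1 (by norm_num)

variable {F : Type*} [Field F] [Fintype F] {M N : Subgroup (GL (Fin 3) F)}

theorem card_zsub {L : Subgroup (GL (Fin 3) F)} (hL : L ≤ specialLinear (Fin 3) F) (hne : Residual.Zsub L ≠ ⊥) :
    Nat.card (Residual.Zsub L) = 3 ∧ 3 ∣ Fintype.card F - 1 := by
  classical
  obtain ⟨z, hz1⟩ := Subgroup.ne_bot_iff_exists_ne_one.1 hne
  have hord : orderOf (z : L) = 3 := orderOf_eq_prime (Residual.scalar_pow_three hL z.2)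
    fun h => hz1 (Subtype.ext h)
  choose c hc using fun w : Residual.Zsub L => (mem_scalars_iff _).1 (Subgroup.mem_subgroupOf.1 w.2)
  have hinj : Function.Injective c := fun u v e => by
    refine Subtype.ext (Subtype.ext (Units.ext ?_))
    rw [hc u, hc v, e]
  have hc3 : ∀ w, c w ∈ rootsOfUnity 3 F := fun w => by
    rw [mem_rootsOfUnity]
    refine Units.ext ?_
    have h := congrArg (fun x : L => ((x : GL (Fin 3) F) : Matrix (Fin 3) (Fin 3) F) 0 0)
      (Residual.scalar_pow_three hL w.2)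
    simpa [hc w, smul_pow] using h
  have hle : Nat.card (Residual.Zsub L) ≤ 3 := by
    refine (Nat.card_le_card_of_injective (fun w => (⟨c w, hc3 w⟩ : rootsOfUnity 3 F))
      fun u v e => hinj (congrArg Subtype.val e)).trans ?_
    exact card_rootsOfUnity F 3
  have h3 : 3 ∣ Nat.card (Residual.Zsub L) := by
    exact (hord.symm.trans (Subgroup.orderOf_coe z)).dvd.trans (orderOf_dvd_natCard z)
  have hcz : c z ≠ 1 := fun e => hz1 (Subtype.ext (Subtype.ext (Units.ext (by rw [hc z, e]; simp))))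
  refine ⟨le_antisymm hle (Nat.le_of_dvd Nat.card_pos h3), ?_⟩
  rw [← Fintype.card_units, ← orderOf_eq_prime ((mem_rootsOfUnity _ _).1 (hc3 z)) hcz]
  exact orderOf_dvd_card

/-- The core maps onto the socle. -/
noncomputable def Sit.proj (hS : Sit M N) : N →* hS.soc :=
  ((QuotientGroup.mk' ((scalars (Fin 3) F).subgroupOf M)).comp (Subgroup.inclusion hS.sub)).rangeRestrict

theorem Sit.proj_coe (hS : Sit M N) (x : N) : (hS.proj x : Bar M) = (Subgroup.inclusion hS.sub x : M) := rfl

theorem Sit.proj_ker (hS : Sit M N) : hS.proj.ker = Residual.Zsub N := by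
  ext x
  rw [MonoidHom.mem_ker, Subtype.ext_iff, hS.proj_coe, Subgroup.coe_one, QuotientGroup.eq_one_iff,
    Subgroup.mem_subgroupOf, Subgroup.mem_subgroupOf]
  rfl

/-- With a central part the elements of the core have trace zero away from the centre of a Sylow subgroup. -/
theorem cube_eq_one (h2 : (2 : F) ≠ 0) {x y : GL (Fin 3) F} (hx : x ∈ specialLinear (Fin 3) F)
    (hz : y * x * y⁻¹ * x⁻¹ ∈ scalars (Fin 3) F) (hne : y * x * y⁻¹ * x⁻¹ ≠ 1)
    (h3 : (y * x * y⁻¹ * x⁻¹) ^ 3 = 1) : x ^ 3 = 1 := by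
  obtain ⟨c, hc⟩ := (mem_scalars_iff _).1 hz
  set A : Matrix (Fin 3) (Fin 3) F := (x : Matrix (Fin 3) (Fin 3) F)
  have hc1 : (c : F) ≠ 1 := fun e => hne (Units.ext (by rw [hc, e, one_smul, Units.val_one]))
  have hc3 : (c : F) ^ 3 = 1 := by
    have h := congrArg (fun u : GL (Fin 3) F => (u : Matrix (Fin 3) (Fin 3) F) 0 0) h3
    simpa [hc, smul_pow] using h
  have hc2 : (c : F) ^ 2 ≠ 1 := fun e => hc1 (by rw [pow_succ, e, one_mul] at hc3; exact hc3)
  have hconj : ((y * x * y⁻¹ : GL (Fin 3) F) : Matrix (Fin 3) (Fin 3) F) = (c : F) • A := by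
    rw [show y * x * y⁻¹ = y * x * y⁻¹ * x⁻¹ * x by group, Units.val_mul, hc, Matrix.smul_mul, one_mul]
  have ht : A.trace = 0 := by
    have h := trace_conj y x
    rw [hconj, Matrix.trace_smul, smul_eq_mul] at h
    exact (mul_eq_zero.1 (show ((c : F) - 1) * A.trace = 0 by linear_combination h)).resolve_left
      (sub_ne_zero.2 hc1)
  have ht2 : (A * A).trace = 0 := by
    have h := trace_conj y (x * x)
    rw [show y * (x * x) * y⁻¹ = (y * x * y⁻¹) * (y * x * y⁻¹) by group, Units.val_mul, hconj, Matrix.smul_mul,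
      Matrix.mul_smul, smul_smul, Matrix.trace_smul, smul_eq_mul, Units.val_mul] at h
    exact (mul_eq_zero.1 (show ((c : F) ^ 2 - 1) * (A * A).trace = 0 by linear_combination h)).resolve_left
      (sub_ne_zero.2 hc2)
  rw [Residual.trace_sq_three, ht] at ht2
  have hm : Residual.minorSum A = 0 :=
    (mul_eq_zero.1 (show (2 : F) * Residual.minorSum A = 0 by linear_combination -ht2)).resolve_left h2
  have h := Residual.cayley_three A
  rw [ht, hm, show A.det = 1 from congrArg Units.val (show Matrix.GeneralLinearGroup.det x = 1 from hx), zero_smul,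
    zero_smul, sub_zero, add_zero, one_smul, sub_eq_zero] at h
  refine Units.ext ?_
  rw [Units.val_pow_eq_pow_val, pow_succ, pow_two, h, Units.val_one]

/-- A Sylow 3-subgroup of the core is extraspecial of exponent three. -/
theorem exists_heis_sylow (h2 : (2 : F) ≠ 0) (hS : Sit M N) (hA : Nat.card hS.soc = 360)
    (hZ : Residual.Zsub N ≠ ⊥) :
    ∃ P : Sylow 3 N, Residual.Zsub N ≤ (P : Subgroup N) ∧ Nat.card ((P : Subgroup N).map N.subtype) = 27 ∧
      Nonempty (Extra27.Heis ((P : Subgroup N).map N.subtype)) := by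
  classical
  haveI : Fact (Nat.Prime 3) := ⟨Nat.prime_three⟩
  obtain ⟨hz3, hq⟩ := card_zsub hS.core.le hZ
  obtain ⟨P, hP⟩ := (IsPGroup.of_card (p := 3) (n := 1) (G := Residual.Zsub N) (by rw [hz3, pow_one])).exists_le_sylow
  have hN : Nat.card N = 1080 := by
    rw [← Subgroup.card_mul_index (Residual.Zsub N), hz3, show (Residual.Zsub N).index = Nat.card (Bar N) from rfl,
      Nat.card_congr hS.socEquiv.toEquiv, hA]
  have hP27 : Nat.card (P : Subgroup N) = 27 := by
    rw [P.card_eq_multiplicity, factorization_three hN]; norm_num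
  set R := (P : Subgroup N).map N.subtype with hR
  let eP : (P : Subgroup N) ≃* R := (P : Subgroup N).equivMapOfInjective N.subtype N.subtype_injective
  have hR27 : Nat.card R = 27 := by rw [← Nat.card_congr eP.toEquiv, hP27]
  refine ⟨P, hP, hR27, ?_⟩
  have hcen : Residual.Zsub N ≤ Subgroup.center N := by
    rw [center_eq_scalars hS.core.absIrred]
  have hnc : ¬ IsMulCommutative (P : Subgroup N) := by
    intro hc
    haveI := hc
    have hcop : Nat.Coprime (Nat.card (P : Subgroup N)) (P : Subgroup N).index := by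
      have h := (P : Subgroup N).card_mul_index
      rw [hP27, hN] at h
      rw [hP27, show (P : Subgroup N).index = 40 by omega]
      norm_num
    have hcomm : _root_.commutator N = ⊤ := by
      refine Subgroup.map_injective N.subtype_injective ?_
      rw [commutator_def, Subgroup.map_commutator, ← MonoidHom.range_eq_map, Subgroup.range_subtype,
        hS.core.perfect]
    refine hZ (eq_bot_iff.2 fun z hz => ?_)
    rw [← Transfer.inf_commutator_inf_center_eq_bot (P : Subgroup N) hcop, hcomm, inf_top_eq]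
    exact ⟨hP hz, hcen hz⟩
  have hexp : Monoid.exponent (P : Subgroup N) = 3 := by
    refine ((Nat.dvd_prime Nat.prime_three).1 (Monoid.exponent_dvd_of_forall_pow_eq_one fun x => ?_)).resolve_left
      fun h1 => ?_
    · refine Subtype.ext (Subtype.ext ?_)
      rw [SubmonoidClass.coe_pow, SubmonoidClass.coe_pow]
      show ((x : N) : GL (Fin 3) F) ^ 3 = 1
      by_cases hxZ : (x : N) ∈ Residual.Zsub N
      · have h := congrArg Subtype.val (Residual.scalar_pow_three hS.core.le hxZ)
        simpa using h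
      have hxc : x ∉ Subgroup.center (P : Subgroup N) := by
        intro hxc
        refine hnc ?_
        let ZP := (Residual.Zsub N).subgroupOf (P : Subgroup N)
        have hZP : Nat.card ZP = 3 := by rw [Nat.card_congr (Subgroup.subgroupOfEquivOfLe hP).toEquiv, hz3]
        have hlt : ZP < Subgroup.center (P : Subgroup N) := by
          refine lt_of_le_of_ne (fun z hz => Subgroup.mem_center_iff.2 fun g =>
            Subtype.ext (Subgroup.mem_center_iff.1 (hcen hz) g)) fun e => hxZ ?_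
          rw [← e] at hxc
          exact hxc
        have h1 : 3 ∣ Nat.card (Subgroup.center (P : Subgroup N)) :=
          hZP.symm.dvd.trans (Subgroup.card_dvd_of_le hlt.le)
        have h2 : Nat.card ZP < Nat.card (Subgroup.center (P : Subgroup N)) :=
          lt_of_le_of_ne (Subgroup.card_le_of_le hlt.le) fun e =>
            hlt.ne (Subgroup.eq_of_le_of_card_ge hlt.le e.ge)
        obtain ⟨k, hk, hck⟩ := (Nat.dvd_prime_pow Nat.prime_three).1
          (show Nat.card (Subgroup.center (P : Subgroup N)) ∣ 3 ^ 3 by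
            rw [show 3 ^ 3 = 27 by norm_num, ← hP27]; exact Subgroup.card_subgroup_dvd_card _)
        have hk2 : 2 ≤ k := by
          by_contra hlt'
          have : 3 ^ k ≤ 3 := by
            calc 3 ^ k ≤ 3 ^ 1 := Nat.pow_le_pow_right (by norm_num) (by omega)
              _ = 3 := pow_one 3
          omega
        have hidx := (Subgroup.center (P : Subgroup N)).card_mul_index
        rw [hck, hP27] at hidx
        haveI : IsCyclic ((P : Subgroup N) ⧸ Subgroup.center (P : Subgroup N)) := by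
          rcases Nat.lt_or_ge k 3 with hk3 | hk3
          · obtain rfl : k = 2 := by omega
            exact isCyclic_of_prime_card (p := 3) (show (Subgroup.center (P : Subgroup N)).index = 3 by omega)
          · obtain rfl : k = 3 := by omega
            haveI : Subsingleton ((P : Subgroup N) ⧸ Subgroup.center (P : Subgroup N)) :=
              (Nat.card_eq_one_iff_unique.1 (show (Subgroup.center (P : Subgroup N)).index = 1 by omega)).1
            exact isCyclic_of_subsingleton
        exact ⟨⟨fun a b => commutative_of_cyclic_center_quotient (QuotientGroup.mk' _)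
          (le_of_eq (QuotientGroup.ker_mk' _)) a b⟩⟩
      obtain ⟨y, hy⟩ : ∃ y : (P : Subgroup N), y * x ≠ x * y := by
        by_contra! hall
        exact hxc (Subgroup.mem_center_iff.2 hall)
      -- the commutator lies in the scalars
      haveI : IsPGroup 3 (P : Subgroup N) → True := fun _ => trivial
      have hquot : ∀ a b : (P : Subgroup N) ⧸ (Residual.Zsub N).subgroupOf (P : Subgroup N), a * b = b * a := by
        refine IsPGroup.commutative_of_card_eq_prime_sq (p := 3) ?_
        have h := ((Residual.Zsub N).subgroupOf (P : Subgroup N)).card_mul_index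
        rw [hP27, Nat.card_congr (Subgroup.subgroupOfEquivOfLe hP).toEquiv, hz3] at h
        show ((Residual.Zsub N).subgroupOf (P : Subgroup N)).index = 3 ^ 2
        omega
      have hmem : (y : N) * x * (y : N)⁻¹ * (x : N)⁻¹ ∈ Residual.Zsub N := by
        have h : ((y * x * y⁻¹ * x⁻¹ : (P : Subgroup N)) :
            (P : Subgroup N) ⧸ (Residual.Zsub N).subgroupOf (P : Subgroup N)) = 1 := by
          simp only [QuotientGroup.mk_mul, QuotientGroup.mk_inv]
          rw [hquot (y : _ ⧸ _) (x : _ ⧸ _)]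
          group
        have h' := Subgroup.mem_subgroupOf.1 ((QuotientGroup.eq_one_iff _).1 h)
        simpa using h'
      refine cube_eq_one h2 (hS.core.le (x : N).2) (y := ((y : N) : GL (Fin 3) F)) ?_ ?_ ?_
      · simpa using Subgroup.mem_subgroupOf.1 hmem
      · intro e
        refine hy (Subtype.ext (Subtype.ext ?_))
        rw [mul_inv_eq_one, mul_inv_eq_iff_eq_mul] at e
        simpa using e
      · simpa using congrArg Subtype.val (Residual.scalar_pow_three hS.core.le hmem)
    · haveI := Monoid.exp_eq_one_iff.1 h1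
      rw [Nat.card_of_subsingleton (1 : (P : Subgroup N))] at hP27
      norm_num at hP27
  obtain ⟨l, hl⟩ := Extra27.exists_primitive (F := F) hq (by norm_num)
  refine Extra27.exists_heis hl ?_ R hR27 ?_ ?_
  · exact fun e => by
      have hh : ((l - 1) ^ 3 : F) = 0 := by linear_combination hl.pow_eq_one - (l ^ 2 - l) * e
      exact hl.ne_one (by norm_num) (sub_eq_zero.1 ((pow_eq_zero_iff three_ne_zero).1 hh))
  · exact (Monoid.exponent_eq_of_mulEquiv eP).symm.trans hexp
  · exact fun hc => hnc ⟨⟨fun a b => eP.injective (by rw [map_mul, map_mul]; exact hc.1.1 _ _)⟩⟩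

/-- The index of the socle. -/
theorem six_index (h2 : (2 : F) ≠ 0) (hS : Sit M N) (hA : Nat.card hS.soc = 360) (hM : Nat.card (Bar M) ∣ 1440)
    (hZ : Residual.Zsub N ≠ ⊥) :
    hS.soc.index ∣ 2 ∧ (((∀ x : hS.soc, orderOf x = 5 → ∀ m : Bar M, m * (x : Bar M) * m⁻¹ ≠ (x : Bar M) ^ 2)) →
      hS.soc = ⊤) := by
  classical
  haveI : Fact (Nat.Prime 3) := ⟨Nat.prime_three⟩
  haveI : Fact (Nat.Prime 2) := ⟨Nat.prime_two⟩
  haveI := hS.soc_normal
  haveI := hS.soc_simple
  obtain ⟨P, hP, hR27, ⟨h⟩⟩ := exists_heis_sylow h2 hS hA hZ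
  set R := (P : Subgroup N).map N.subtype with hR
  let S : Sylow 3 hS.soc := P.mapSurjective (f := hS.proj) (MonoidHom.rangeRestrict_surjective _)
  set St := (MulAction.stabilizer (Equiv.Perm (Sylow 3 hS.soc)) S).comap (Maximal.sylHom hS.soc 3) with hSt
  have hmemSt : ∀ m, m ∈ St ↔ Maximal.sylHom hS.soc 3 m S = S := fun m => Iff.rfl
  haveI : Finite (Sylow 3 hS.soc) := Nat.finite_of_card_ne_zero (by
    rw [CfsgLib.TwoGroups.OrderThreeSixty.card_sylow_three hA]; norm_num)
  have htrans : ∀ Q Q' : Sylow 3 hS.soc, ∃ a : hS.soc, a • Q = Q' := fun Q Q' => MulAction.exists_smul_eq _ Q Q'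
  have hSt36 : Nat.card St = 36 * hS.soc.index := by
    letI act : MulAction (Bar M) (Sylow 3 hS.soc) := MulAction.compHom _ (Maximal.sylHom hS.soc 3)
    haveI : MulAction.IsPretransitive (Bar M) (Sylow 3 hS.soc) := ⟨fun Q Q' => by
      obtain ⟨a, ha⟩ := htrans Q Q'
      exact ⟨(a : Bar M), (Maximal.sylHom_coe_apply _ a Q).trans ha⟩⟩
    have h1 := St.card_mul_index
    rw [show St.index = (MulAction.stabilizer (Bar M) S).index from rfl,
      MulAction.index_stabilizer_of_transitive, CfsgLib.TwoGroups.OrderThreeSixty.card_sylow_three hA,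
      ← hS.soc.card_mul_index, hA] at h1
    omega
  let π := QuotientGroup.mk' ((scalars (Fin 3) F).subgroupOf M)
  set T := St.comap π with hT
  have hZM : Nat.card ((scalars (Fin 3) F).subgroupOf M) = 3 := by
    refine (card_zsub hS.le_sl fun hbot => hZ ((Subgroup.eq_bot_iff_forall _).2 fun z hz => ?_)).1
    have := (Subgroup.eq_bot_iff_forall _).1 hbot (Subgroup.inclusion hS.sub z) hz
    exact Subgroup.inclusion_injective hS.sub (this.trans (map_one _).symm)
  let π' : T →* St := (π.comp T.subtype).codRestrict St fun t => t.2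
  have hT108 : Nat.card T = 3 * Nat.card St := by
    have h1 := π'.ker.card_mul_index
    rw [Subgroup.index_ker, MonoidHom.range_eq_top.2 (fun s => by
      obtain ⟨m, hm⟩ := QuotientGroup.mk'_surjective _ (s : Bar M)
      exact ⟨⟨m, show π m ∈ St from hm ▸ s.2⟩, Subtype.ext hm⟩), Subgroup.card_top] at h1
    rw [← h1]
    congr 1
    refine Eq.trans ?_ hZM.symm.symm
    have hker : π'.ker = ((scalars (Fin 3) F).subgroupOf M).subgroupOf T := by
      ext t
      rw [MonoidHom.mem_ker, Subtype.ext_iff, Subgroup.mem_subgroupOf]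
      exact QuotientGroup.eq_one_iff _
    rw [hker]
    refine Nat.card_congr (Subgroup.subgroupOfEquivOfLe fun z hz => ?_).toEquiv
    show π z ∈ St
    rw [show π z = 1 from (QuotientGroup.eq_one_iff _).2 hz]
    exact one_mem _
  have hnorm : ∀ t : T, ((t : M) : GL (Fin 3) F) ∈ subgroupNormalizer R := by
    intro t
    refine Subgroup.mem_normalizer_fintype ?_
    rintro _ ⟨x, hx, rfl⟩
    refine ⟨⟨_, hS.normal _ (t : M).2 x x.2⟩, ?_, rfl⟩
    set y : N := ⟨_, hS.normal _ (t : M).2 x x.2⟩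
    have hst : (MulAut.conjNormal (π (t : M)) : MulAut hS.soc) • S = S := (hmemSt _).1 t.2
    have h1 : hS.proj y ∈ (S : Subgroup hS.soc) := by
      have h2 : (MulAut.conjNormal (π (t : M)) : MulAut hS.soc) • hS.proj x ∈
          (((MulAut.conjNormal (π (t : M)) : MulAut hS.soc) • S : Sylow 3 hS.soc) : Subgroup hS.soc) :=
        Subgroup.smul_mem_pointwise_smul _ _ _ ⟨x, hx, rfl⟩
      rw [hst] at h2
      convert h2 using 1
      refine Subtype.ext ?_
      rw [MulAut.smul_def, MulAut.conjNormal_apply]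
      rfl
    have h3 : y ∈ ((P : Subgroup N).map hS.proj).comap hS.proj := h1
    rwa [Subgroup.comap_map_eq, sup_eq_left.2 (hS.proj_ker.le.trans hP)] at h3
  let f : T →* Matrix.SpecialLinearGroup (Fin 2) (ZMod 3) :=
    (Maximal.chi h).comp (((M.subtype.comp T.subtype)).codRestrict (subgroupNormalizer R) hnorm)
  have hker : Nat.card f.ker ∣ 27 := by
    let ι : f.ker →* R :=
      { toFun := fun x => ⟨(((x : T) : M) : GL (Fin 3) F),
          Maximal.mem_of_chi h _ (hS.le_sl ((x : T) : M).2) x.2⟩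
        map_one' := rfl
        map_mul' := fun _ _ => rfl }
    exact hR27 ▸ Subgroup.card_dvd_of_injective ι fun x y e =>
      Subtype.ext (Subtype.ext (Subtype.ext (congrArg Subtype.val e :)))
  have hdvd : Nat.card T ∣ 27 * 24 := by
    rw [← f.ker.card_mul_index, Subgroup.index_ker]
    refine Nat.mul_dvd_mul hker ((Subgroup.card_subgroup_dvd_card _).trans ?_)
    rw [show Nat.card (Matrix.SpecialLinearGroup (Fin 2) (ZMod 3)) = 24 by rw [Nat.card_eq_fintype_card]; rfl]
  have hidx : hS.soc.index ∣ 2 := by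
    have h4 : hS.soc.index ∣ 4 := by
      have h1 := hS.soc.card_mul_index
      rw [hA] at h1
      rw [← h1] at hM
      exact Nat.dvd_of_mul_dvd_mul_left (by norm_num) (hM.trans (show 1440 ∣ 360 * 4 by norm_num))
    have h6 : hS.soc.index ∣ 6 := by
      rw [hT108, hSt36] at hdvd
      exact Nat.dvd_of_mul_dvd_mul_left (show 0 < 108 by norm_num)
        ((show 108 * hS.soc.index = 3 * (36 * hS.soc.index) by ring) ▸ hdvd)
    exact (Nat.dvd_gcd h4 h6).trans (by norm_num)
  refine ⟨hidx, fun hfus => ?_⟩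
  rcases (Nat.dvd_prime Nat.prime_two).1 hidx with h1 | h2'
  · exact Subgroup.index_eq_one.1 h1
  exfalso
  have hT216 : Nat.card T = 216 := by rw [hT108, hSt36, h2']
  obtain ⟨U, hU⟩ : ∃ U : Subgroup T, Nat.card U = 8 :=
    ⟨_, (Sylow.exists_subgroup_card_pow_prime 2 (n := 3) (by rw [hT216]; norm_num)).choose_spec⟩
  have hUinj : ∀ {β : Type} [Group β] (g : T →* β), Nat.Coprime 8 (Nat.card g.ker) →
      ∀ u ∈ U, g u = 1 → u = 1 := fun g hg u hu hu1 =>
    orderOf_eq_one_iff.1 (Nat.eq_one_of_dvd_coprimes hg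
      (hU ▸ Subgroup.orderOf_dvd_natCard _ hu) (Subgroup.orderOf_dvd_natCard _ (MonoidHom.mem_ker.2 hu1)))
  have hfinj : ∀ u ∈ U, f u = 1 → u = 1 := hUinj f (Nat.Coprime.coprime_dvd_right hker (by norm_num))
  have hπinj : ∀ u ∈ U, π (u : M) = 1 → u = 1 := fun u hu hu1 =>
    orderOf_eq_one_iff.1 (Nat.eq_one_of_dvd_coprimes (show Nat.Coprime 8 3 by norm_num)
      (hU ▸ Subgroup.orderOf_dvd_natCard _ hu) (orderOf_dvd_of_pow_eq_one (Subtype.ext (by
        rw [SubmonoidClass.coe_pow]
        exact Residual.scalar_pow_three hS.le_sl ((QuotientGroup.eq_one_iff _).1 hu1)))))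
  set Ub := U.map (π.comp T.subtype) with hUb
  have hUb8 : Nat.card Ub = 8 := by
    rw [← hU]
    refine (Nat.card_congr (Equiv.ofBijective (fun u : U => (⟨π ((u : T) : M), ⟨u, u.2, rfl⟩⟩ : Ub)) ⟨?_, ?_⟩)).symm
    · intro a b e
      have h1 := hπinj ((a : T)⁻¹ * b) (U.mul_mem (U.inv_mem a.2) b.2) (by
        have e' : π ((a : T) : M) = π ((b : T) : M) := congrArg Subtype.val e
        rw [Subgroup.coe_mul, InvMemClass.coe_inv, map_mul, map_inv, e', inv_mul_cancel])
      exact Subtype.ext (inv_mul_eq_one.1 h1)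
    · rintro ⟨_, u, hu, rfl⟩
      exact ⟨⟨u, hu⟩, rfl⟩
  obtain ⟨u, hu, huA⟩ : ∃ u ∈ Ub, u ∉ hS.soc := by
    by_contra! hall
    have hle : Ub ≤ St ⊓ hS.soc := le_inf (by rintro _ ⟨t, -, rfl⟩; exact t.2) hall
    have h1 := Subgroup.card_dvd_of_le hle
    have h2'' : Nat.card (St ⊓ hS.soc : Subgroup (Bar M)) * hS.soc.relIndex St = 72 := by
      have h3 := (hS.soc.subgroupOf St).card_mul_index
      rw [Nat.card_congr (Subgroup.inf_subgroupOf_left hS.soc St ▸
        (Subgroup.subgroupOfEquivOfLe (inf_le_left : St ⊓ hS.soc ≤ St))).toEquiv, hSt36, h2'] at h3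
      exact h3
    have hrel : hS.soc.relIndex St = 2 := by
      rcases (Nat.dvd_prime Nat.prime_two).1 (h2' ▸ Subgroup.relIndex_dvd_index_of_normal hS.soc St) with e | e
      · exfalso
        have hsub : St ≤ hS.soc := Subgroup.relIndex_eq_one.1 e
        have hcard : Nat.card (St.subgroupOf hS.soc) = 36 * 2 := by
          rw [Nat.card_congr (Subgroup.subgroupOfEquivOfLe hsub).toEquiv, hSt36, h2']
        have hst : St.subgroupOf hS.soc = MulAction.stabilizer hS.soc S := by
          ext a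
          rw [Subgroup.mem_subgroupOf, hmemSt, Maximal.sylHom_coe_apply, MulAction.mem_stabilizer_iff]
        have h4 := (MulAction.stabilizer hS.soc S).card_mul_index
        rw [← hst, hcard, hst, MulAction.index_stabilizer_of_transitive,
          CfsgLib.TwoGroups.OrderThreeSixty.card_sylow_three hA, hA] at h4
        norm_num at h4
      · exact e
    rw [hrel] at h2''
    have h36 := Nat.eq_of_mul_eq_mul_right two_pos (h2''.trans (show 72 = 36 * 2 by norm_num))
    exact absurd ((hUb8.symm.dvd.trans h1).trans h36.dvd) (by norm_num)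
  obtain ⟨w, hw, hwu⟩ := hu
  simp only [MonoidHom.comp_apply, Subgroup.coe_subtype] at hwu
  have hU8 : ∀ t ∈ U, t ^ 8 = 1 := fun t ht => by
    have := pow_card_eq_one' (G := U) (x := ⟨t, ht⟩)
    rw [hU] at this
    exact congrArg Subtype.val this
  have hw4 : w ^ 4 = 1 := hfinj _ (U.pow_mem hw 4) (by
    rw [map_pow]
    exact (sl_two_three_facts (f w)).1 (by rw [← map_pow, hU8 w hw, map_one]))
  have hw2 : w ^ 2 ≠ 1 := by
    intro hw2
    obtain ⟨v, hv, hvA, hv1, hv2⟩ : ∃ v ∈ U, π (v : M) ∈ hS.soc ∧ v ≠ 1 ∧ v ^ 2 = 1 := by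
      let H : Subgroup U := (hS.soc.comap (π.comp T.subtype)).subgroupOf U
      have hH : 2 ∣ Nat.card H := by
        have hi : H.index ∣ 2 := h2' ▸ (show H.index ∣ hS.soc.index from by
          show (hS.soc.comap (π.comp T.subtype)).relIndex U ∣ _
          rw [Subgroup.relIndex_comap]
          exact Subgroup.relIndex_dvd_index_of_normal _ _)
        have hm := H.card_mul_index
        rw [hU] at hm
        rcases (Nat.dvd_prime Nat.prime_two).1 hi with e | e <;> rw [e] at hm <;> omega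
      obtain ⟨v, hv⟩ := exists_prime_orderOf_dvd_card' (G := H) 2 hH
      refine ⟨((v : U) : T), (v : U).2, v.2, fun e => ?_, ?_⟩
      · have : v = 1 := Subtype.ext (Subtype.ext e)
        rw [this, orderOf_one] at hv
        norm_num at hv
      · have := pow_orderOf_eq_one v
        rw [hv] at this
        exact congrArg (fun z : H => ((z : U) : T)) this
    have hneg : ∀ t ∈ U, t ≠ 1 → t ^ 2 = 1 → (f t).1 = -1 := fun t ht ht1 ht2 =>
      ((sl_two_three_facts (f t)).2 (by rw [← map_pow, ht2, map_one])).resolve_left fun e => ht1 (hfinj t ht e)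
    have hw1 : w ≠ 1 := fun e => huA (by rw [← hwu, e]; simp)
    have he : f w = f v := Subtype.ext ((hneg w hw hw1 hw2).trans (hneg v hv hv1 hv2).symm)
    have hwv : w = v := (inv_mul_eq_one.1 (hfinj _ (U.mul_mem (U.inv_mem hv) hw) (by
      rw [map_mul, map_inv, he, inv_mul_cancel]))).symm
    exact huA (by rw [← hwu, hwv]; exact hvA)
  have hu4 : orderOf u = 4 := by
    refine orderOf_eq_prime_pow (p := 2) (n := 1) ?_ ?_
    · intro e
      refine hw2 (hπinj _ (U.pow_mem hw 2) ?_)
      rw [SubmonoidClass.coe_pow, map_pow, hwu]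
      simpa using e
    · rw [← hwu, ← map_pow, ← SubmonoidClass.coe_pow, show (2 : ℕ) ^ (1 + 1) = 4 by norm_num, hw4]
      simp
  exact huA (Maximal.mem_of_four (A := hS.soc) hA hS.centralizer_soc hM hfus hu4 (P := S)
    ((hmemSt u).1 (hwu ▸ w.2)))

/-- The clauses for socle A6 with scalars. -/
theorem six_clause (p α : ℕ) [Fact p.Prime] [CharP F p] (hp : p ≠ 2) (hF : Fintype.card F = p ^ α) (hS : Sit M N)
    (e : Bar N ≃* alternatingGroup (Fin 6)) (hZ : Residual.Zsub N ≠ ⊥) :
    (p = 5 ∧ Even α ∧ (Nonempty (Bar M ≃* alternatingGroup (Fin 6)) ∨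
      ∃ L : Subgroup (Bar M), L.index = 2 ∧ Nonempty (L ≃* alternatingGroup (Fin 6)))) ∨
    ((p ^ α % 30 = 1 ∨ p ^ α % 30 = 19) ∧ Nonempty (Bar M ≃* alternatingGroup (Fin 6))) := by
  classical
  haveI := hS.soc_normal
  have hpp := (Fact.out : p.Prime)
  let eA : hS.soc ≃* alternatingGroup (Fin 6) := hS.socEquiv.symm.trans e
  have hA : Nat.card hS.soc = 360 := by
    rw [Nat.card_congr eA.toEquiv, nat_card_alternatingGroup, Nat.card_fin]; rfl
  have hM : Nat.card (Bar M) ∣ 1440 := by
    let ψ : Bar M →* MulAut (alternatingGroup (Fin 6)) :=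
      (MulAut.congr eA).toMonoidHom.comp MulAut.conjNormal
    refine (Subgroup.card_dvd_of_injective ψ ((MulAut.congr eA).injective.comp ?_)).trans
      (by simpa [Nat.factorial] using
        CfsgLib.ClassSizes.AlternatingAut.card_mulAut_six (α := Fin 6) (Fintype.card_fin 6))
    rw [← MonoidHom.ker_eq_bot_iff, eq_bot_iff, ← hS.centralizer_soc]
    intro z hz
    rw [Subgroup.mem_centralizer_iff]
    intro a ha
    have h1 := congrArg Subtype.val (MulEquiv.congr_fun (MonoidHom.mem_ker.1 hz) ⟨a, ha⟩)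
    rw [MulAut.conjNormal_apply] at h1
    exact (mul_inv_eq_iff_eq_mul.1 h1).symm
  have h2 : (2 : F) ≠ 0 := by
    intro h
    have h' : ((2 : ℕ) : F) = 0 := by exact_mod_cast h
    rw [CharP.cast_eq_zero_iff F p] at h'
    exact hp ((Nat.prime_dvd_prime_iff_eq hpp Nat.prime_two).1 h')
  obtain ⟨hidx, htop⟩ := six_index h2 hS hA hM hZ
  have h3q : 3 ∣ p ^ α - 1 := hF ▸ (card_zsub hS.core.le hZ).2
  have hpos : 1 ≤ p ^ α := Nat.one_le_pow _ _ hpp.pos
  by_cases h5 : p = 5
  · refine Or.inl ⟨h5, ?_, ?_⟩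
    · by_contra ho
      obtain ⟨k, hk⟩ := Nat.not_even_iff_odd.1 ho
      have h1 : p ^ α % 3 = 2 := by
        rw [h5, hk, pow_succ, pow_mul, Nat.mul_mod, Nat.pow_mod]; simp
      omega
    · rcases (Nat.dvd_prime Nat.prime_two).1 hidx with h | h
      · exact Or.inl ⟨(Subgroup.topEquiv.symm.trans (MulEquiv.subgroupCongr (Subgroup.index_eq_one.1 h).symm)).trans eA⟩
      · exact Or.inr ⟨hS.soc, h, ⟨eA⟩⟩
  have h5F : ((5 : ℕ) : F) ≠ 0 := by
    rw [Ne, CharP.cast_eq_zero_iff F p]
    exact fun h => h5 ((Nat.prime_dvd_prime_iff_eq hpp (by norm_num)).1 h)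
  have key : ∀ x : hS.soc, orderOf x = 5 → ∃ g : M, (g : Bar M) = x ∧ g ^ 5 = 1 ∧
      (((g : GL (Fin 3) F) : Matrix (Fin 3) (Fin 3) F) ^ 4).trace =
        ((g : GL (Fin 3) F) : Matrix (Fin 3) (Fin 3) F).trace ∧
      (((g : GL (Fin 3) F) : Matrix (Fin 3) (Fin 3) F) ^ 2).trace ≠
        ((g : GL (Fin 3) F) : Matrix (Fin 3) (Fin 3) F).trace := by
    intro x hx
    have hx5 : (x : Bar M) ^ 5 = 1 := by rw [← Subgroup.coe_pow, ← hx, pow_orderOf_eq_one, Subgroup.coe_one]
    obtain ⟨g, -, hg, hgx⟩ := hS.exists_lift x.2 (by norm_num) hx5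
    obtain ⟨a, ha⟩ := Residual.real_alt_six.congr eA.symm x
    obtain ⟨k, hk⟩ := conj_lift hS.le_sl (by norm_num) hg (m := (a : Bar M)) (j := 4) (by
      rw [hgx, show (x : Bar M) ^ 4 = (x : Bar M)⁻¹ from eq_inv_of_mul_eq_one_left (by rw [← pow_succ, hx5])]
      simpa using congrArg Subtype.val ha)
    have h4 := (trace_of_conj (k := k) (g := g) (i := 1) (j := 4) (by rwa [pow_one])).symm
    rw [pow_one] at h4
    refine ⟨g, hgx, hg, h4, fun hsq => ?_⟩
    have h1 : g = 1 := eq_one_of_two_conj hS.le_sl (n := 5) (by norm_num) h5F hg h4 hsq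
    have : x = 1 := Subtype.ext (by rw [← hgx, h1]; rfl)
    rw [this, orderOf_one] at hx
    norm_num at hx
  have hfus : ∀ x : hS.soc, orderOf x = 5 → ∀ m : Bar M, m * (x : Bar M) * m⁻¹ ≠ (x : Bar M) ^ 2 := by
    intro x hx m hm
    obtain ⟨g, hgx, hg, -, hne⟩ := key x hx
    rw [← hgx] at hm
    obtain ⟨k, hk⟩ := conj_lift hS.le_sl (by norm_num) hg hm
    refine hne ?_
    have := trace_of_conj (k := k) (g := g) (i := 1) (j := 2) (by rwa [pow_one])
    simpa using this.symm
  refine Or.inr ⟨?_, ⟨(Subgroup.topEquiv.symm.trans (MulEquiv.subgroupCongr (htop hfus).symm)).trans eA⟩⟩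
  haveI : Fact (Nat.Prime 5) := ⟨by norm_num⟩
  obtain ⟨x₀, hx₀⟩ := exists_prime_orderOf_dvd_card' (G := hS.soc) 5 (by rw [hA]; norm_num)
  obtain ⟨g, hgbar, hg, h4, hne⟩ := key x₀ hx₀
  set A := ((g : GL (Fin 3) F) : Matrix (Fin 3) (Fin 3) F) with hAdef
  have hA5 : A ^ 5 = 1 := by
    rw [hAdef, ← Units.val_pow_eq_pow_val, ← SubmonoidClass.coe_pow, hg]; rfl
  have hq : (A ^ (p ^ α % 5)).trace = A.trace := by
    rw [← pow_eq_pow_mod (p ^ α) hA5, Residual.trace_pow_char_pow p A α, ← hF, FiniteField.pow_card]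
  have h3 : (A ^ 3).trace = (A ^ 2).trace := by
    obtain ⟨g', hg'x, hg', h4', -⟩ : ∃ g' : M, (g' : Bar M) = (x₀ ^ 2 : hS.soc) ∧ g' ^ 5 = 1 ∧
        (((g' : GL (Fin 3) F) : Matrix (Fin 3) (Fin 3) F) ^ 4).trace =
          ((g' : GL (Fin 3) F) : Matrix (Fin 3) (Fin 3) F).trace ∧ True := by
      obtain ⟨g', e1, e2, e3, -⟩ := key (x₀ ^ 2) (by rw [orderOf_pow' _ two_ne_zero, hx₀]; norm_num)
      exact ⟨g', e1, e2, e3, trivial⟩
    have hgg : g' = g ^ 2 := eq_of_bar_eq hS.le_sl (n := 5) (by norm_num) hg'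
      (by rw [← pow_mul, mul_comm, pow_mul, hg, one_pow]) (by
        rw [hg'x, QuotientGroup.mk_pow, hgbar]; simp)
    subst hgg
    rw [SubmonoidClass.coe_pow, Units.val_pow_eq_pow_val, ← hAdef, ← pow_mul,
      pow_eq_pow_mod (2 * 4) hA5] at h4'
    exact h4'
  have hr : p ^ α % 5 ≠ 2 ∧ p ^ α % 5 ≠ 3 := by
    refine ⟨fun h => hne ?_, fun h => hne ?_⟩ <;> rw [h] at hq
    · exact hq
    · rw [← h3, hq]
  have h0 : p ^ α % 5 ≠ 0 := fun h => h5 ((Nat.prime_dvd_prime_iff_eq (by norm_num) hpp).1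
    ((by norm_num : Nat.Prime 5).dvd_of_dvd_pow (Nat.dvd_of_mod_eq_zero h))).symm
  have hodd : p ^ α % 2 = 1 := by rw [Nat.pow_mod, hpp.eq_two_or_odd.resolve_left hp]; simp
  omega

end CfsgLib.Geo.SL3.Odd
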