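/-
The subgroups of PSL(3, q), q odd, without abelian normal subgroups.
-/
import Cfsg.Agent.Lib.Geo.SL3.Odd.Reduce
import Cfsg.Agent.Lib.Geo.SL3.Odd.Orth
import Cfsg.Agent.Lib.Geo.SL3.Odd.Seven
import Cfsg.Agent.Lib.Geo.SL3.Odd.Six
import Cfsg.Agent.Lib.Geo.SL3.Odd.Large
import Cfsg.Agent.Lib.Geo.SL3.Residual.Cases

set_option autoImplicit false

namespace CfsgLib.Geo.SL3.Odd

open Cfsg.Geo
open scoped MatrixGroups

theorem five_pow_mod_seven (k : ℕ) : 5 ^ (2 * k + 1) % 7 = 3 ∨ 5 ^ (2 * k + 1) % 7 = 5 ∨ 5 ^ (2 * k + 1) % 7 = 6 := by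
  induction k with
  | zero => norm_num
  | succ k ih =>
    rw [show 2 * (k + 1) + 1 = 2 + (2 * k + 1) by ring, pow_add, Nat.mul_mod]
    rcases ih with h | h | h <;> rw [h] <;> norm_num

theorem or_embed {a b c d e f r : Prop} (h : e ∨ f) : a ∨ b ∨ c ∨ d ∨ e ∨ f ∨ r :=
  h.elim (fun h => Or.inr (Or.inr (Or.inr (Or.inr (Or.inl h)))))
    fun h => Or.inr (Or.inr (Or.inr (Or.inr (Or.inr (Or.inl h)))))

variable {F : Type*} [Field F] [Fintype F] {M N : Subgroup (GL (Fin 3) F)}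

/-- Elements of order seven of L3(2) are conjugate to their squares. -/
theorem sq_conj_three_two {Q : Type*} [Group Q] (e : Q ≃* Matrix.SpecialLinearGroup (Fin 3) (ZMod 2)) {x : Q}
    (hx : orderOf x = 7) : ∃ a, a * x * a⁻¹ = x ^ 2 := by
  rcases Residual.three_two_cases e x with ⟨-, h⟩ | ⟨-, h | h⟩
  · exact h
  all_goals
    have := orderOf_dvd_of_pow_eq_one h
    rw [hx] at this
    norm_num at this

/-- Elements of order seven of A7 are conjugate to their squares. -/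
theorem sq_conj_alt_seven {Q : Type*} [Group Q] (e : Q ≃* alternatingGroup (Fin 7)) {x : Q}
    (hx : orderOf x = 7) : ∃ a, a * x * a⁻¹ = x ^ 2 := by
  have he : orderOf (e x) = 7 := (e.orderOf_eq x).trans hx
  rcases Residual.alt_seven_cases (e x) with ⟨-, y, hy⟩ | ⟨-, h | h | h⟩
  · exact ⟨e.symm y, e.injective (by simpa using hy)⟩
  all_goals
    have := orderOf_dvd_of_pow_eq_one h
    rw [he] at this
    norm_num at this

/-- The classification. -/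
theorem subgroups_psl_three (p α : ℕ) [Fact p.Prime] (hp : p ≠ 2) (hα : 1 ≤ α) (hF : Fintype.card F = p ^ α)
    (H : Subgroup (Matrix.ProjectiveSpecialLinearGroup (Fin 3) F)) (hH : H ≠ ⊥)
    (hN : ∀ N : Subgroup ↥H, N.Normal → IsMulCommutative ↥N → (∃ r : ℕ, r.Prime ∧ ∀ x ∈ N, x ^ r = 1) → N = ⊥) :
    (∃ (K : Type) (_ : Field K) (_ : Fintype K) (β : ℕ), Fintype.card K = p ^ β ∧ β ∣ α ∧ Nonempty (↥H ≃* Matrix.ProjectiveSpecialLinearGroup (Fin 3) K)) ∨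
    (∃ (K : Type) (_ : Field K) (_ : Fintype K) (β : ℕ), Fintype.card K = p ^ (2 * β) ∧ 2 * β ∣ α ∧ Nonempty (↥H ≃* Cfsg.PSU 3 K (p ^ β))) ∨
    (∃ (K : Type) (_ : Field K) (_ : Fintype K) (β : ℕ), Fintype.card K = p ^ β ∧ 3 ∣ p ^ β - 1 ∧ 3 * β ∣ α ∧ ∃ L : Subgroup ↥H, L.index = 3 ∧ Nonempty (↥L ≃* Matrix.ProjectiveSpecialLinearGroup (Fin 3) K)) ∨
    (∃ (K : Type) (_ : Field K) (_ : Fintype K) (β : ℕ), Fintype.card K = p ^ (2 * β) ∧ 3 ∣ p ^ β + 1 ∧ 6 * β ∣ α ∧ ∃ L : Subgroup ↥H, L.index = 3 ∧ Nonempty (↥L ≃* Cfsg.PSU 3 K (p ^ β))) ∨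
    (∃ (K : Type) (_ : Field K) (_ : Fintype K) (β : ℕ), Fintype.card K = p ^ β ∧ β ∣ α ∧ p ^ β ≠ 3 ∧ (Nonempty (↥H ≃* Matrix.ProjectiveSpecialLinearGroup (Fin 2) K) ∨ Nonempty (↥H ≃* (GL (Fin 2) K ⧸ Subgroup.center (GL (Fin 2) K))))) ∨
    ((p ^ α % 10 = 1 ∨ p ^ α % 10 = 9) ∧ ∃ (K : Type) (_ : Field K) (_ : Fintype K), Fintype.card K = 5 ∧ Nonempty (↥H ≃* Matrix.ProjectiveSpecialLinearGroup (Fin 2) K)) ∨
    ((p ^ α) ^ 3 % 7 = 1 ∧ ∃ (K : Type) (_ : Field K) (_ : Fintype K), Fintype.card K = 7 ∧ Nonempty (↥H ≃* Matrix.ProjectiveSpecialLinearGroup (Fin 2) K)) ∨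
    (p = 5 ∧ Even α ∧ (Nonempty (↥H ≃* ↥(alternatingGroup (Fin 6))) ∨ Nonempty (↥H ≃* ↥(alternatingGroup (Fin 7))) ∨
      ∃ L : Subgroup ↥H, L.index = 2 ∧ Nonempty (↥L ≃* ↥(alternatingGroup (Fin 6))))) ∨
    ((p ^ α % 30 = 1 ∨ p ^ α % 30 = 19) ∧ Nonempty (↥H ≃* ↥(alternatingGroup (Fin 6)))) := by
  classical
  have hpp := (Fact.out : p.Prime)
  haveI : CharP F p := charP_of_card_eq_prime_pow hF
  have h2 : (2 : F) ≠ 0 := by
    intro h
    have h' : ((2 : ℕ) : F) = 0 := by exact_mod_cast h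
    rw [CharP.cast_eq_zero_iff F p] at h'
    exact hp ((Nat.prime_dvd_prime_iff_eq hpp Nat.prime_two).1 h')
  obtain ⟨M, N, hS, ⟨eH⟩⟩ := exists_sit h2 H hH hN
  by_cases hT : NoTransvection N
  swap
  · rcases large_clauses p α hp hF hS hT eH with h | h | h | h
    exacts [Or.inl h, Or.inr (Or.inl h), Or.inr (Or.inr (Or.inl h)), Or.inr (Or.inr (Or.inr (Or.inl h)))]
  haveI := hS.soc_normal
  haveI := hS.soc_simple
  have hbm : (-1 : ℤ) = 1 ∨ (-1 : ℤ) = -1 := Or.inr rfl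
  have hfin : Residual.TraceMap N 1 (-1) →
      (∃ (K : Type) (_ : Field K) (_ : Fintype K) (β : ℕ), Fintype.card K = p ^ β ∧ β ∣ α ∧ p ^ β ≠ 3 ∧ (Nonempty (↥H ≃* Matrix.ProjectiveSpecialLinearGroup (Fin 2) K) ∨ Nonempty (↥H ≃* (GL (Fin 2) K ⧸ Subgroup.center (GL (Fin 2) K))))) ∨
      ((p ^ α % 10 = 1 ∨ p ^ α % 10 = 9) ∧ ∃ (K : Type) (_ : Field K) (_ : Fintype K), Fintype.card K = 5 ∧ Nonempty (↥H ≃* Matrix.ProjectiveSpecialLinearGroup (Fin 2) K)) := by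
    intro h
    rcases orth_cases p α hp hF hS h with ⟨K, i1, i2, β, e1, e2, e3, e4⟩ | ⟨e1, K, i1, i2, e2, ⟨e3⟩⟩
    · refine Or.inl ⟨K, i1, i2, β, e1, e2, e3, e4.imp ?_ ?_⟩ <;> exact fun ⟨e⟩ => ⟨eH.symm.trans e⟩
    · exact Or.inr ⟨e1, K, i1, i2, e2, ⟨eH.symm.trans e3⟩⟩
  rcases Residual.core_types p hp hS.core hT with h | ⟨hZ, ⟨e⟩⟩ | ⟨⟨e⟩⟩ | ⟨h5, ⟨e⟩⟩
  · exact or_embed (hfin h)
  · obtain ⟨e'⟩ := Residual.nonempty_sl_three_two
    by_cases h7 : p = 7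
    · exact or_embed (hfin (Residual.traceMap_three_two p hS.core.le hbm (Or.inr (by norm_num)) (Or.inr (by norm_num))
        (e.trans e') hZ (Or.inl h7)))
    let eA := hS.socEquiv.symm.trans e
    haveI : Fact (Nat.Prime 7) := ⟨by norm_num⟩
    obtain ⟨e7⟩ := CfsgLib.Classical.Seven.nonempty_psl_seven_equiv (F := ZMod 7) (K := ZMod 2) (ZMod.card 7)
      (ZMod.card 2)
    have hsq : ∀ x : hS.soc, orderOf x = 7 → ∃ a : hS.soc, a * x * a⁻¹ = x ^ 2 := fun x hx =>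
      sq_conj_three_two (eA.trans e') hx
    have hA : Nat.card hS.soc = 168 := by
      rw [Nat.card_congr eA.toEquiv]
      exact Maximal.card_psl_three_two
    obtain ⟨hq, -, -, -, hinv⟩ := seven_data p α h7 hF hS hsq (by rw [hA]; norm_num)
    have htop := eq_top_168 hS.soc hA hS.centralizer_soc hsq hinv
    refine Or.inr (Or.inr (Or.inr (Or.inr (Or.inr (Or.inr (Or.inl ⟨hq, ZMod 7, inferInstance, inferInstance,
      ZMod.card 7, ⟨?_⟩⟩))))))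
    exact (eH.symm.trans ((Subgroup.topEquiv.symm.trans (MulEquiv.subgroupCongr htop.symm)).trans eA)).trans e7.symm
  · by_cases hZ : Residual.Zsub N = ⊥
    · exact or_embed (hfin (Residual.traceMap_six p hS.core.le hbm (Or.inr (by norm_num)) (Or.inr (by norm_num)) e (Or.inr hZ)
        (Or.inr (Or.inl (by norm_num)))))
    rcases six_clause p α hp hF hS e hZ with ⟨h5, hev, h⟩ | ⟨hq, ⟨e6⟩⟩
    · refine Or.inr (Or.inr (Or.inr (Or.inr (Or.inr (Or.inr (Or.inr (Or.inl ⟨h5, hev, ?_⟩)))))))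
      rcases h with e6 | ⟨L, hL, ⟨eL⟩⟩
      · exact Or.inl (e6.map eH.symm.trans)
      · exact Or.inr (Or.inr ⟨L.map eH.toMonoidHom, (Subgroup.index_map_equiv L eH).trans hL,
          ⟨(L.equivMapOfInjective eH.toMonoidHom eH.injective).symm.trans eL⟩⟩)
    · exact Or.inr (Or.inr (Or.inr (Or.inr (Or.inr (Or.inr (Or.inr (Or.inr ⟨hq, ⟨eH.symm.trans e6⟩⟩)))))))
  · subst h5
    let eA := hS.socEquiv.symm.trans e
    have hsq : ∀ x : hS.soc, orderOf x = 7 → ∃ a : hS.soc, a * x * a⁻¹ = x ^ 2 := fun x hx =>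
      sq_conj_alt_seven eA hx
    have hA : Nat.card hS.soc = 2520 := by
      rw [Nat.card_congr eA.toEquiv, nat_card_alternatingGroup, Nat.card_fin]; rfl
    obtain ⟨-, n3, n5, n6, hinv⟩ := seven_data 5 α (by norm_num) hF hS hsq (by rw [hA]; norm_num)
    have htop := eq_top_alt_seven hS.soc eA hS.centralizer_soc hsq hinv
    refine Or.inr (Or.inr (Or.inr (Or.inr (Or.inr (Or.inr (Or.inr (Or.inl ⟨rfl, ?_, Or.inr (Or.inl ⟨?_⟩)⟩)))))))
    · by_contra ho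
      obtain ⟨k, rfl⟩ := Nat.not_even_iff_odd.1 ho
      rcases five_pow_mod_seven k with h | h | h
      exacts [n3 h, n5 h, n6 h]
    · exact eH.symm.trans ((Subgroup.topEquiv.symm.trans (MulEquiv.subgroupCongr htop.symm)).trans eA)

end CfsgLib.Geo.SL3.Odd
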